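import Groth.Agent.Lib.NormalSmooth12.Basic
import Mathlib.RingTheory.Unramified.LocalStructure
import Mathlib.RingTheory.Ideal.MinimalPrime.Localization
import Mathlib.AlgebraicGeometry.Morphisms.Etale
import Mathlib.AlgebraicGeometry.Morphisms.QuasiFinite
import Mathlib.AlgebraicGeometry.FunctionField
import Mathlib.RingTheory.Flat.TorsionFree

/-!
# Étale schemes over integral normal schemes are locally irreducible
-/

universe u

set_option maxHeartbeats 400000

open CategoryTheory AlgebraicGeometry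

namespace Groth.Agent.NormSep24

theorem eq_of_minimalPrimes_le {B : Type u} [CommRing B] {P P' q : Ideal B} (hq : q.IsPrime)
    [IsDomain (Localization.AtPrime q)] (hP : P ∈ minimalPrimes B) (hP' : P' ∈ minimalPrimes B)
    (hle : P ≤ q) (hle' : P' ≤ q) : P = P' := by
  have key : ∀ Q ∈ minimalPrimes B, Q ≤ q →
      Q = (⊥ : Ideal (Localization.AtPrime q)).comap (algebraMap B (Localization.AtPrime q)) := by
    intro Q hQ hQq
    haveI : Q.IsPrime := hQ.1.1
    haveI : (⊥ : Ideal (Localization.AtPrime q)).IsPrime := Ideal.isPrime_bot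
    have hd : Disjoint (q.primeCompl : Set B) Q :=
      Set.disjoint_left.mpr fun x hx hxQ => hx (hQq hxQ)
    have h1 : (Q.map (algebraMap B (Localization.AtPrime q))).comap
        (algebraMap B (Localization.AtPrime q)) = Q :=
      IsLocalization.comap_map_of_isPrime_disjoint q.primeCompl (Localization.AtPrime q) inferInstance hd
    have h2 : (⊥ : Ideal (Localization.AtPrime q)).comap (algebraMap B (Localization.AtPrime q)) ≤ Q :=
      (Ideal.comap_mono bot_le).trans h1.le
    exact le_antisymm (hQ.2 ⟨inferInstance, bot_le⟩ h2) h2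
  rw [key P hP hle, key P' hP' hle']

theorem finite_minimalPrimes (A B : Type u) [CommRing A] [IsDomain A] [CommRing B] [Algebra A B]
    [Algebra.Etale A B] : (minimalPrimes B).Finite := by
  haveI : Module.Flat A B := Algebra.Smooth.flat A B
  haveI : Algebra.QuasiFinite A B := inferInstance
  refine (Algebra.QuasiFinite.finite_primesOver (S := B) (⊥ : Ideal A)).subset fun P hP => ?_
  haveI : P.IsPrime := hP.1.1
  refine ⟨inferInstance, ⟨?_⟩⟩
  refine le_antisymm bot_le fun a ha => Ideal.mem_bot.2 ?_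
  by_contra ha0
  have ha' : algebraMap A B a ∈ P := Ideal.mem_comap.mp ha
  have hn : algebraMap A B a ∉ nonZeroDivisors B :=
    notMem_nonZeroDivisors_of_mem_mem_minimalPrimes ha' hP
  refine hn (mem_nonZeroDivisors_iff_right.mpr fun x hx => ?_)
  exact Module.Flat.isSMulRegular_of_isRegular (M := B) (IsRegular.of_ne_zero ha0)
    (show a • x = a • (0 : B) by rw [smul_zero, Algebra.smul_def, mul_comm, hx])

variable {U X : Scheme.{u}} (g : U ⟶ X) [AlgebraicGeometry.Etale g] [IsIntegral X]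

include g in
theorem exists_irreducible_nhd (hN : ∀ x : X, IsIntegrallyClosed (X.presheaf.stalk x)) (u : U) :
    ∃ W : U.Opens, u ∈ W ∧ IsIrreducible (W : Set U) := by
  obtain ⟨O, hO, hxO, -⟩ :=
    exists_isAffineOpen_mem_and_subset (X := X) (x := g u) (U := ⊤) trivial
  obtain ⟨V, hV, huV, hVO⟩ := exists_isAffineOpen_mem_and_subset (U := g ⁻¹ᵁ O) (x := u) hxO
  have he := HasRingHomProperty.appLE (P := @AlgebraicGeometry.Etale) g inferInstance ⟨O, hO⟩ ⟨V, hV⟩ hVO
  algebraize [(g.appLE O V hVO).hom]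
  haveI : Nonempty O := ⟨⟨g u, hxO⟩⟩
  haveI : IsDomain Γ(X, O) := inferInstance
  haveI : IsIntegrallyClosed Γ(X, O) := by
    refine IsIntegrallyClosed.of_localization_maximal fun m _ hm => ?_
    haveI : m.IsPrime := hm.isPrime
    let x : O := ⟨hO.fromSpec ⟨m, inferInstance⟩, hO.range_fromSpec.le ⟨_, rfl⟩⟩
    have hx : hO.primeIdealOf x = ⟨m, inferInstance⟩ :=
      hO.fromSpec.isOpenEmbedding.injective (by rw [hO.fromSpec_primeIdealOf])
    let := X.presheaf.algebra_section_stalk x
    haveI : IsLocalization.AtPrime (X.presheaf.stalk x.1) m := by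
      have := hO.isLocalization_stalk x
      rwa [hx] at this
    haveI := hN x.1
    exact IsIntegrallyClosed.of_equiv
      (IsLocalization.algEquiv m.primeCompl (X.presheaf.stalk x.1) (Localization.AtPrime m)).toRingEquiv
  have hnormal : EGA4.IsNormalRing Γ(U, V) :=
    NormalSmooth12.isNormalRing_of_smooth_domain (R := Γ(X, O))
  have huniq : ∀ (q : Ideal Γ(U, V)) (_ : q.IsPrime) (P P' : Ideal Γ(U, V)),
      P ∈ minimalPrimes Γ(U, V) → P' ∈ minimalPrimes Γ(U, V) → P ≤ q → P' ≤ q → P = P' := by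
    intro q hq P P' hP hP'
    haveI := (hnormal q).1
    exact eq_of_minimalPrimes_le hq hP hP'
  obtain ⟨q, hq⟩ : ∃ q, hV.fromSpec q = u := hV.range_fromSpec.ge huV
  obtain ⟨P, hP, hPq⟩ := Ideal.exists_minimalPrimes_le (I := (⊥ : Ideal Γ(U, V))) (J := q.asIdeal) bot_le
  let T : Set (PrimeSpectrum Γ(U, V)) :=
    ⋃ Q ∈ {Q ∈ minimalPrimes Γ(U, V) | Q ≠ P}, PrimeSpectrum.zeroLocus (Q : Set Γ(U, V))
  have hT : IsClosed T :=
    ((finite_minimalPrimes Γ(X, O) Γ(U, V)).subset fun Q hQ => hQ.1).isClosed_biUnion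
      fun Q _ => PrimeSpectrum.isClosed_zeroLocus _
  have hcompl : Tᶜ = PrimeSpectrum.zeroLocus (P : Set Γ(U, V)) := by
    ext r
    rw [PrimeSpectrum.mem_zeroLocus, SetLike.coe_subset_coe]
    constructor
    · intro hr
      obtain ⟨Q, hQ, hQr⟩ :=
        Ideal.exists_minimalPrimes_le (I := (⊥ : Ideal Γ(U, V))) (J := r.asIdeal) bot_le
      by_cases h : Q = P
      · exact h ▸ hQr
      · refine absurd (Set.mem_iUnion₂.mpr ⟨Q, ?_, (PrimeSpectrum.mem_zeroLocus _ _).mpr hQr⟩) hr
        exact ⟨hQ, h⟩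
    · intro hr hrT
      obtain ⟨Q, ⟨hQ, hne⟩, hQr⟩ := Set.mem_iUnion₂.mp hrT
      exact hne (huniq r.asIdeal r.2 Q P hQ hP ((PrimeSpectrum.mem_zeroLocus _ _).mp hQr) hr)
  refine ⟨hV.fromSpec ''ᵁ ⟨Tᶜ, hT.isOpen_compl⟩, ⟨q, ?_, hq⟩, ?_⟩
  · show q ∈ Tᶜ
    rw [hcompl]
    exact (PrimeSpectrum.mem_zeroLocus _ _).mpr hPq
  · show IsIrreducible (hV.fromSpec '' Tᶜ)
    refine IsIrreducible.image ?_ _ hV.fromSpec.continuous.continuousOn
    have h2 : IsIrreducible (PrimeSpectrum.zeroLocus (P : Set Γ(U, V))) := by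
      rw [PrimeSpectrum.isIrreducible_zeroLocus_iff, hP.1.1.radical]
      exact hP.1.1
    exact hcompl.symm ▸ h2

omit [IsIntegral X] in
/-- Points of one fibre do not specialize to one another. -/
theorem eq_of_specializes_of_fibre {s t : U} (h : s ⤳ t) (hst : g s = g t) : s = t := by
  haveI : LocallyQuasiFinite g := by
    rw [HasRingHomProperty.eq_affineLocally @LocallyQuasiFinite, affineLocally_iff_affineOpens_le]
    intro O V e
    have he := HasRingHomProperty.appLE (P := @AlgebraicGeometry.Etale) g inferInstance O V e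
    algebraize [(g.appLE O.1 V.1 e).hom]
    exact RingHom.quasiFinite_algebraMap.mpr inferInstance
  haveI := (g.isDiscrete_preimage_singleton (g t)).to_subtype
  have h' : (⟨s, hst⟩ : g ⁻¹' {g t}) ⤳ ⟨t, rfl⟩ := (subtype_specializes_iff _ _).mpr h
  exact congrArg Subtype.val h'.eq

end Groth.Agent.NormSep24
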