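import Groth.Agent.Lib.NormSep24.Vanish
import Groth.Agent.Lib.NormSep24.Irr
import Groth.Agent.Lib.EtStalk.Topological

/-!
# Constant sheaves on irreducible objects; the unit for constant sheaves on normal schemes
-/

universe u

set_option maxHeartbeats 400000

open CategoryTheory CategoryTheory.Limits AlgebraicGeometry Opposite

namespace Groth.Agent.NormSep24

open Groth.Agent.EtSite

variable {X Y : Scheme.{u}} (M : Type) [AddCommGroup M]

/-- The canonical map from the constant presheaf. -/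
noncomputable def cst (V : X.Etale) (m : ULift.{u + 1} M) : (EtCoh.const X M).obj.obj (op V) :=
  (toSheafify X.smallEtaleTopology
    ((Functor.const X.Etaleᵒᵖ).obj (AddCommGrpCat.of (ULift.{u + 1} M)))).app (op V) m

theorem cst_res {V W : X.Etale} (a : V ⟶ W) (m : ULift.{u + 1} M) :
    (EtCoh.const X M).obj.map a.op (cst M W m) = cst M V m :=
  (ConcreteCategory.congr_hom ((toSheafify X.smallEtaleTopology
    ((Functor.const X.Etaleᵒᵖ).obj (AddCommGrpCat.of (ULift.{u + 1} M)))).naturality a.op) m).symm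

theorem cst_injective (V : X.Etale) (h : Nonempty V.left) : Function.Injective (cst M V) := by
  intro m m' e
  obtain ⟨x⟩ := h
  obtain ⟨Y, f, y, hy, -⟩ := (mem_et_iff _ _).1
    (Presheaf.equalizerSieve_mem X.smallEtaleTopology (toSheafify X.smallEtaleTopology
      ((Functor.const X.Etaleᵒᵖ).obj (AddCommGrpCat.of (ULift.{u + 1} M)))) _ _ e) x
  exact hy

theorem isOpen_range_left {V W : X.Etale} (a : V ⟶ W) : IsOpen (Set.range a.left) := by
  haveI := EtStalk.etale_left a
  exact a.left.isOpenMap.isOpen_range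

theorem cst_surjective (V : X.Etale) (hV : IrreducibleSpace V.left) :
    Function.Surjective (cst M V) := by
  intro s
  haveI := hV
  haveI : PreirreducibleSpace V.left := hV.toPreirreducibleSpace
  have hloc : ∀ x : V.left, ∃ (Y : X.Etale) (f : Y ⟶ V) (m : ULift.{u + 1} M),
      x ∈ Set.range f.left ∧ cst M Y m = (EtCoh.const X M).obj.map f.op s := fun x => by
    obtain ⟨Y, f, y, ⟨b, hb⟩, hy⟩ := (mem_et_iff V _).1
      (Presheaf.imageSieve_mem X.smallEtaleTopology (toSheafify X.smallEtaleTopology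
        ((Functor.const X.Etaleᵒᵖ).obj (AddCommGrpCat.of (ULift.{u + 1} M)))) s) x
    exact ⟨Y, f, b, ⟨y, hy⟩, hb⟩
  choose Y f m hx hm using hloc
  obtain ⟨x₀⟩ := hV.toNonempty
  refine ⟨m x₀, sect_ext (EtCoh.const X M) Y f (fun x => ⟨x, hx x⟩) fun x => ?_⟩
  obtain ⟨z, ⟨y₁, hy₁⟩, y₂, hy₂⟩ := nonempty_preirreducible_inter (isOpen_range_left (f x₀))
    (isOpen_range_left (f x)) ⟨x₀, hx x₀⟩ ⟨x, hx x⟩
  haveI := EtStalk.etale_left (f x₀)
  haveI := EtStalk.etale_left (f x)
  let g₁ : (Y x₀).left ⟶ V.left := (f x₀).left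
  let g₂ : (Y x).left ⟶ V.left := (f x).left
  let h₀ : (Y x₀).left ⟶ X := (Y x₀).hom
  haveI : AlgebraicGeometry.Etale h₀ := (Y x₀).prop
  haveI : AlgebraicGeometry.Etale g₂ := EtStalk.etale_left (f x)
  let P : X.Etale := Scheme.Etale.mk (pullback.fst g₁ g₂ ≫ h₀)
  let p₁ : P ⟶ Y x₀ := MorphismProperty.Over.homMk (pullback.fst g₁ g₂) rfl
  have hw : pullback.snd g₁ g₂ ≫ (Y x).hom = pullback.fst g₁ g₂ ≫ (Y x₀).hom := by
    rw [← MorphismProperty.Over.w (f x), ← MorphismProperty.Over.w (f x₀)]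
    exact (Category.assoc _ _ _).symm.trans
      ((congrArg (· ≫ V.hom) pullback.condition.symm).trans (Category.assoc _ _ _))
  let p₂ : P ⟶ Y x := MorphismProperty.Over.homMk (pullback.snd g₁ g₂) hw
  have hp : p₁ ≫ f x₀ = p₂ ≫ f x := MorphismProperty.Over.Hom.ext pullback.condition
  have heq : m x₀ = m x := by
    obtain ⟨w, -, -⟩ := Scheme.Pullback.exists_preimage_pullback (f := g₁) (g := g₂) y₁ y₂
      (hy₁.trans hy₂.symm)
    refine cst_injective M P ⟨w⟩ ?_
    rw [← cst_res M p₁, ← cst_res M p₂, hm, hm, res_res, res_res, hp]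
  rw [cst_res, heq, hm]

theorem cst_bijective (V : X.Etale) (hV : IrreducibleSpace V.left) :
    Function.Bijective (cst M V) :=
  ⟨cst_injective M V hV.toNonempty, cst_surjective M V hV⟩

theorem unit_constAdj (m : ULift.{u + 1} M) :
    (EtCore.constAdj X).unit.app (AddCommGrpCat.of (ULift.{u + 1} M)) m =
      cst M (EtCoh.top X) m := rfl

variable (f : X ⟶ Y)

/-- The unit, read between constant sheaves. -/
noncomputable def toPush : EtCoh.const Y M ⟶ (EtCoh.push f).obj (EtCoh.const X M) :=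
  (EtCoh.pullPushAdj f).unit.app (EtCoh.const Y M) ≫ (EtCoh.push f).map (EtCore.pullConst f M).hom

theorem isIso_unit_of_isIso_toPush (h : IsIso (toPush M f)) :
    IsIso ((EtCoh.pullPushAdj f).unit.app (EtCoh.const Y M)) := by
  haveI : IsIso ((EtCoh.pullPushAdj f).unit.app (EtCoh.const Y M) ≫
      (EtCoh.push f).map (EtCore.pullConst f M).hom) := h
  exact IsIso.of_isIso_comp_right _ ((EtCoh.push f).map (EtCore.pullConst f M).hom)

theorem toPush_top (m : ULift.{u + 1} M) :
    (toPush M f).hom.app (op (EtCoh.top Y)) (cst M (EtCoh.top Y) m) =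
      cst M ((EtCoh.bc f).obj (EtCoh.top Y)) m := by
  have h := ConcreteCategory.congr_hom (Adjunction.homEquiv_leftAdjointUniq_hom_app
    (((EtCore.constAdj Y).comp (EtCoh.pullPushAdj f)).ofNatIsoRight (EtCore.pushGsecIso f))
    (EtCore.constAdj X) (AddCommGrpCat.of (ULift.{u + 1} M))) m
  rw [Adjunction.homEquiv_unit] at h
  have h' : (EtCoh.const X M).obj.map (EtCore.bcTopIso f).inv.op
      ((toPush M f).hom.app (op (EtCoh.top Y)) (cst M (EtCoh.top Y) m)) =
        cst M (EtCoh.top X) m := by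
    refine Eq.trans ?_ (h.trans (unit_constAdj M m))
    exact (ConcreteCategory.congr_hom
      ((EtCore.pullConst f M).hom.hom.naturality (EtCore.bcTopIso f).inv.op) _).symm
  rw [← cst_res M (EtCore.bcTopIso f).hom, ← h', res_res, Iso.hom_inv_id, op_id,
    (EtCoh.const X M).obj.map_id]
  rfl

theorem toPush_cst (V : Y.Etale) (m : ULift.{u + 1} M) :
    (toPush M f).hom.app (op V) (cst M V m) = cst M ((EtCoh.bc f).obj V) m := by
  let a : V ⟶ EtCoh.top Y := (EtCore.topIsTerminal Y).from V
  rw [← cst_res M a]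
  refine (ConcreteCategory.congr_hom ((toPush M f).hom.naturality a.op) _).trans ?_
  show (EtCoh.const X M).obj.map ((EtCoh.bc f).map a).op
    ((toPush M f).hom.app (op (EtCoh.top Y)) (cst M (EtCoh.top Y) m)) = _
  rw [toPush_top, cst_res]

theorem toPush_bijective (V : Y.Etale) (hV : IrreducibleSpace V.left)
    (hW : IrreducibleSpace ((EtCoh.bc f).obj V).left) :
    Function.Bijective ((toPush M f).hom.app (op V)) := by
  have e : ((toPush M f).hom.app (op V) : _ → _) ∘ cst M V = cst M ((EtCoh.bc f).obj V) :=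
    funext (toPush_cst M f V)
  have h := cst_bijective M _ hW
  rw [← e] at h
  exact (Function.Bijective.of_comp_iff _ (cst_bijective M V hV)).mp h

/-- Criterion for the unit to be an isomorphism. -/
theorem isIso_toPush
    (hb : ∀ (V : Y.Etale) (v : V.left), ∃ W : V.left.Opens, v ∈ W ∧ IrreducibleSpace W ∧
      IrreducibleSpace ((EtCoh.bc f).obj (sub V W)).left) :
    IsIso (toPush M f) := by
  refine (Sheaf.isLocallyBijective_iff_isIso (toPush M f)).mp ⟨⟨fun {V} s t hst => ?_⟩, ⟨fun {V} s => ?_⟩⟩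
  · rw [mem_et_iff]
    intro v
    obtain ⟨W, hv, hW, hW'⟩ := hb V.unop v
    refine ⟨sub V.unop W, subHom V.unop W, ⟨v, hv⟩, ?_, rfl⟩
    refine (toPush_bijective M f _ hW hW').1 ?_
    have h1 := ConcreteCategory.congr_hom ((toPush M f).hom.naturality (subHom V.unop W).op) s
    have h2 := ConcreteCategory.congr_hom ((toPush M f).hom.naturality (subHom V.unop W).op) t
    exact h1.trans ((congrArg (((EtCoh.push f).obj (EtCoh.const X M)).obj.map (subHom V.unop W).op)
      hst).trans h2.symm)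
  · rw [mem_et_iff]
    intro v
    obtain ⟨W, hv, hW, hW'⟩ := hb V v
    obtain ⟨b, hb'⟩ := (toPush_bijective M f _ hW hW').2
      (((EtCoh.push f).obj (EtCoh.const X M)).obj.map (subHom V W).op s)
    exact ⟨sub V W, subHom V W, ⟨v, hv⟩, ⟨b, hb'⟩, rfl⟩

variable [IsIntegral Y] (hN : ∀ y : Y, IsIntegrallyClosed (Y.presheaf.stalk y))

include hN in
/-- Irreducible objects form a basis. -/
theorem exists_irr (V : Y.Etale) (v : V.left) :
    ∃ W : V.left.Opens, v ∈ W ∧ IrreducibleSpace W := by
  let g : V.left ⟶ Y := V.hom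
  haveI : AlgebraicGeometry.Etale g := V.prop
  obtain ⟨W, hv, hW⟩ := exists_irreducible_nhd g hN v
  exact ⟨W, hv, isIrreducible_iff_irreducibleSpace.mp hW⟩

omit [IsIntegral Y] in
theorem range_bcFst (V : Y.Etale) :
    Set.range (EtStalk.bcFst f V) = V.hom ⁻¹' Set.range f := by
  exact Scheme.Pullback.range_fst V.hom f

theorem generic_mem_range {V : Y.Etale} (hV : Nonempty V.left) :
    genericPoint Y ∈ Set.range V.hom := by
  let g : V.left ⟶ Y := V.hom
  haveI : AlgebraicGeometry.Etale g := V.prop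
  exact ((genericPoint_spec Y).mem_open_set_iff g.isOpenMap.isOpen_range).mpr
    (by simpa using Set.range_nonempty g)

end Groth.Agent.NormSep24
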