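import Groth.Agent.Lib.NormSep24.StrictHens
import Groth.Agent.Lib.EtStalk.Henselian
import Groth.Agent.Lib.IsQuot25.Torsor
import Mathlib.AlgebraicGeometry.SpreadingOut
import Mathlib.AlgebraicGeometry.FunctionField

/-!
# Étale schemes over a normal scheme with separably closed function field
-/

universe u

set_option maxHeartbeats 400000

open CategoryTheory CategoryTheory.Limits AlgebraicGeometry Opposite

namespace Groth.Agent.NormSep24

/-- The hypotheses on the base. -/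
structure Base (X : Scheme.{u}) [IsIntegral X] : Prop where
  normal : ∀ x : X, IsIntegrallyClosed (X.presheaf.stalk x)
  sep : IsSepClosed X.functionField

theorem Base.strictHens {X : Scheme.{u}} [IsIntegral X] (hX : Base X) (x : X) :
    EtCoh.IsStrictlyHenselianLocalRing (X.presheaf.stalk x) := by
  haveI := hX.normal x
  haveI := hX.sep
  haveI h := henselianLocalRing (R := X.presheaf.stalk x) X.functionField
  exact ⟨h, isSepClosed_residueField (R := X.presheaf.stalk x) X.functionField⟩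

variable {U X : Scheme.{u}} (g : U ⟶ X) [AlgebraicGeometry.Etale g] [IsIntegral X] (hX : Base X)

theorem isIso_residueFieldMap (hs : ∀ x : X, IsSepClosed (X.residueField x)) (u : U) :
    IsIso (g.residueFieldMap u) := by
  haveI := hs (g u)
  letI : Algebra (X.residueField (g u)) (U.residueField u) := (g.residueFieldMap u).hom.toAlgebra
  rw [ConcreteCategory.isIso_iff_bijective]
  exact IsSepClosed.algebraMap_bijective (X.residueField (g u)) (U.residueField u)

include hX in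
/-- Through every point passes a local section. -/
theorem exists_section (u : U) : ∃ (V : X.Opens) (s : (V : Scheme.{u}) ⟶ U),
    s ≫ g = V.ι ∧ g u ∈ V ∧ u ∈ Set.range s := by
  let R := X.presheaf.stalk (g u)
  obtain ⟨hh, hsc⟩ := hX.strictHens (g u)
  haveI := isIso_residueFieldMap g (fun x => (hX.strictHens x).choose_spec) u
  let r : U.residueField u ⟶ X.residueField (g u) := inv (g.residueFieldMap u)
  have hr : g.residueFieldMap u ≫ r = 𝟙 _ := IsIso.hom_inv_id _
  let A : (Spec (CommRingCat.of R)).Etale :=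
    Scheme.Etale.mk (pullback.snd g (X.fromSpecStalk (g u)))
  let a : Spec (CommRingCat.of (IsLocalRing.ResidueField R)) ⟶ pullback g (X.fromSpecStalk (g u)) :=
    pullback.lift (Spec.map r ≫ U.fromSpecResidueField u)
      (EtStalk.closedPt R) (by
        rw [Category.assoc, ← Scheme.Hom.SpecMap_residueFieldMap_fromSpecResidueField,
          ← Spec.map_comp_assoc]
        erw [hr, Spec.map_id, Category.id_comp]
        )
  let φ : EtStalk.fib (EtStalk.closedPt R) A := Over.homMk a (pullback.lift_snd _ _ _)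
  obtain ⟨σ, hσ⟩ := EtStalk.exists_section R φ
  let ψ : Spec (CommRingCat.of R) ⟶ U := σ.left ≫ pullback.fst g (X.fromSpecStalk (g u))
  have hψ : ψ ≫ g = X.fromSpecStalk (g u) := by
    show (σ.left ≫ _) ≫ g = _
    refine ((Category.assoc _ _ _).trans (congrArg (σ.left ≫ ·) pullback.condition)).trans ?_
    exact (Category.assoc _ _ _).symm.trans ((congrArg (· ≫ X.fromSpecStalk (g u))
      (MorphismProperty.Over.w σ)).trans (Category.id_comp _))
  obtain ⟨V, hxV, s, hs₁, hs₂⟩ := spread_out_of_isGermInjective' (𝟙 X) g ψ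
    (by rw [hψ, Category.comp_id])
  refine ⟨V, s, by rw [hs₂, Category.comp_id], hxV,
    V.fromSpecStalkOfMem (g u) hxV (EtStalk.closedPt R default), ?_⟩
  rw [← Scheme.Hom.comp_apply, ← hs₁]
  have h1 : EtStalk.closedPt R ≫ σ.left = a := congrArg (fun t => t.left) hσ
  have h2 : EtStalk.closedPt R ≫ ψ =
      Spec.map r ≫ U.fromSpecResidueField u := by
    show _ ≫ σ.left ≫ _ = _
    exact ((Category.assoc _ _ _).symm.trans
      (congrArg (· ≫ pullback.fst g (X.fromSpecStalk (g u))) h1)).trans (pullback.lift_fst _ _ _)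
  rw [← Scheme.Hom.comp_apply, h2]
  exact Scheme.fromSpecResidueField_apply u _

include hX in
/-- An étale morphism is a local isomorphism. -/
theorem exists_isOpenImmersion (u : U) :
    ∃ W : U.Opens, u ∈ W ∧ IsOpenImmersion (W.ι ≫ g) ∧ IrreducibleSpace W := by
  obtain ⟨V, s, hs, hxV, ⟨v, rfl⟩⟩ := exists_section g hX u
  haveI : AlgebraicGeometry.Etale (s ≫ g) := by rw [hs]; infer_instance
  haveI : AlgebraicGeometry.Etale s := Etale.of_comp s g
  haveI : Mono (s ≫ g) := by rw [hs]; infer_instance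
  haveI : Mono s := mono_of_mono s g
  haveI : IsOpenImmersion s := IsOpenImmersion.of_flat_of_mono s
  refine ⟨s.opensRange, ⟨v, rfl⟩, ?_, ?_⟩
  · have e : s.opensRange.ι ≫ g = s.isoOpensRange.inv ≫ V.ι := by
      rw [← hs, ← Category.assoc, Scheme.Hom.isoOpensRange_inv_comp]
    rw [e]; infer_instance
  · haveI : Nonempty (V : Scheme.{u}) := ⟨v⟩
    haveI : IsIntegral (V : Scheme.{u}) := isIntegral_of_isOpenImmersion V.ι
    haveI : IsIntegral (s.opensRange : Scheme.{u}) := by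
      haveI : Nonempty (s.opensRange : Scheme.{u}) := ⟨⟨s v, v, rfl⟩⟩
      exact isIntegral_of_isOpenImmersion s.isoOpensRange.inv
    exact inferInstanceAs (IrreducibleSpace (s.opensRange : Scheme.{u}))

/-- The points over the generic point. -/
abbrev Gen : Type u := {t : U // g t = genericPoint X}

/-- The sheet of a point over the generic point. -/
def sheet (t : Gen g) : Set U := closure {t.1}

include hX in
theorem exists_gen_nhd (u : U) : ∃ (W : U.Opens) (t : Gen g), u ∈ W ∧ IsOpenImmersion (W.ι ≫ g) ∧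
    t.1 ∈ W ∧ (W : Set U) ⊆ sheet g t ∧ ∀ t' : Gen g, t'.1 ∈ W → t' = t := by
  obtain ⟨W, hu, hW, hirr⟩ := exists_isOpenImmersion g hX u
  haveI := hW
  haveI : Nonempty (W : Scheme.{u}) := ⟨⟨u, hu⟩⟩
  haveI : IrreducibleSpace (W : Scheme.{u}) := hirr
  have hg : (W.ι ≫ g) (genericPoint (W : Scheme.{u})) = genericPoint X :=
    genericPoint_eq_of_isOpenImmersion (W.ι ≫ g)
  refine ⟨W, ⟨W.ι (genericPoint (W : Scheme.{u})), hg⟩, hu, hW,
    (genericPoint (W : Scheme.{u})).2, fun v hv => ?_, fun t' ht' => ?_⟩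
  · have h := (genericPoint_spec (W : Scheme.{u})).specializes (Set.mem_univ (⟨v, hv⟩ : W))
    exact (h.map W.ι.continuous).mem_closure
  · apply Subtype.ext
    have h0 : (⟨t'.1, ht'⟩ : (W : Scheme.{u})) = genericPoint (W : Scheme.{u}) :=
      (W.ι ≫ g).isOpenEmbedding.injective
        (show (W.ι ≫ g) ⟨t'.1, ht'⟩ = (W.ι ≫ g) (genericPoint (W : Scheme.{u})) from
          t'.2.trans hg.symm)
    exact congrArg W.ι h0

include hX in
theorem eq_of_mem_sheet {t t' : Gen g} {u : U} (h : u ∈ sheet g t) (h' : u ∈ sheet g t') :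
    t = t' := by
  obtain ⟨W, t₀, hu, -, -, -, huniq⟩ := exists_gen_nhd g hX u
  have hm : ∀ {s : Gen g}, u ∈ sheet g s → s = t₀ := fun {s} hs =>
    huniq s ((specializes_iff_mem_closure.mpr hs).mem_open W.2 hu)
  rw [hm h, hm h']

include hX in
theorem exists_mem_sheet (u : U) : ∃ t : Gen g, u ∈ sheet g t := by
  obtain ⟨W, t, hu, -, -, hsub, -⟩ := exists_gen_nhd g hX u
  exact ⟨t, hsub hu⟩

include hX in
theorem isOpen_sheet (t : Gen g) : IsOpen (sheet g t) := by
  refine isOpen_iff_forall_mem_open.mpr fun u hu => ?_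
  obtain ⟨W, t', huW, -, -, hsub, -⟩ := exists_gen_nhd g hX u
  exact ⟨W, eq_of_mem_sheet g hX hu (hsub huW) ▸ hsub, W.2, huW⟩

/-- The sheet as an open subscheme. -/
def sheetOpen (t : Gen g) : U.Opens := ⟨sheet g t, isOpen_sheet g hX t⟩

/-- A section of an étale morphism over an open is an open immersion. -/
theorem isOpenImmersion_of_section {V : X.Opens} (s : (V : Scheme.{u}) ⟶ U) (hs : s ≫ g = V.ι) :
    IsOpenImmersion s := by
  haveI : AlgebraicGeometry.Etale (s ≫ g) := by rw [hs]; infer_instance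
  haveI : AlgebraicGeometry.Etale s := Etale.of_comp s g
  haveI : Mono (s ≫ g) := by rw [hs]; infer_instance
  haveI : Mono s := mono_of_mono s g
  exact IsOpenImmersion.of_flat_of_mono s

theorem section_base {V : X.Opens} (s : (V : Scheme.{u}) ⟶ U) (hs : s ≫ g = V.ι) (v : V) :
    g (s v) = v.1 := by
  rw [← Scheme.Hom.comp_apply, hs]
  rfl

/-- Two sections through a common point agree where both are defined. -/
theorem sections_eq [IsSeparated g] {V₁ V₂ W : X.Opens} (e₁ : W ≤ V₁) (e₂ : W ≤ V₂)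
    (s₁ : (V₁ : Scheme.{u}) ⟶ U)
    (hs₁ : s₁ ≫ g = V₁.ι) (s₂ : (V₂ : Scheme.{u}) ⟶ U) (hs₂ : s₂ ≫ g = V₂.ι) (ζ : W)
    (ht : (X.homOfLE e₁ ≫ s₁) ζ ∈ Set.range s₂) :
    X.homOfLE e₁ ≫ s₁ = X.homOfLE e₂ ≫ s₂ := by
  haveI := isOpenImmersion_of_section g s₂ hs₂
  haveI : Nonempty (W : Scheme.{u}) := ⟨ζ⟩
  haveI : IsIntegral (W : Scheme.{u}) := isIntegral_of_isOpenImmersion W.ι
  haveI : PreirreducibleSpace (W : Scheme.{u}) :=
    (inferInstance : IrreducibleSpace (W : Scheme.{u})).toPreirreducibleSpace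
  let ξ := (W : Scheme.{u}).fromSpecResidueField ζ
  have hr : Set.range (ξ ≫ X.homOfLE e₁ ≫ s₁) ⊆ Set.range s₂ := by
    rintro _ ⟨p, rfl⟩
    rw [Scheme.Hom.comp_apply, show ξ p = ζ from Scheme.fromSpecResidueField_apply ..]
    exact ht
  have hag : (X.homOfLE e₁ ≫ s₁) ≫ g = W.ι := by
    rw [Category.assoc, hs₁, Scheme.homOfLE_ι]
  have hbg : (X.homOfLE e₂ ≫ s₂) ≫ g = W.ι := by
    rw [Category.assoc, hs₂, Scheme.homOfLE_ι]
  have hl := IsOpenImmersion.lift_fac s₂ (ξ ≫ X.homOfLE e₁ ≫ s₁) hr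
  have h2 : IsOpenImmersion.lift s₂ (ξ ≫ X.homOfLE e₁ ≫ s₁) hr = ξ ≫ X.homOfLE e₂ := by
    rw [← cancel_mono V₂.ι, ← hs₂, ← Category.assoc, hl, Category.assoc, hag, Category.assoc, hs₂,
      Scheme.homOfLE_ι]
  have h3 : ξ ≫ (X.homOfLE e₁ ≫ s₁) = ξ ≫ (X.homOfLE e₂ ≫ s₂) := by
    rw [← hl, h2, Category.assoc]
  exact IsQuot25.eq_of_eq_at_point g _ _ (hag.trans hbg.symm)
    (K := (W : Scheme.{u}).residueField ζ) ξ h3

include hX in
theorem injOn_sheet [IsSeparated g] (t : Gen g) : Set.InjOn g (sheet g t) := by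
  intro u₁ h₁ u₂ h₂ he
  obtain ⟨V₁, s₁, hs₁, hx₁, ⟨v₁, rfl⟩⟩ := exists_section g hX u₁
  obtain ⟨V₂, s₂, hs₂, hx₂, ⟨v₂, rfl⟩⟩ := exists_section g hX u₂
  haveI := isOpenImmersion_of_section g s₁ hs₁
  haveI := isOpenImmersion_of_section g s₂ hs₂
  obtain ⟨w₁, hw₁⟩ :=
    (specializes_iff_mem_closure.mpr h₁).mem_open s₁.isOpenEmbedding.isOpen_range ⟨v₁, rfl⟩
  obtain ⟨w₂, hw₂⟩ :=
    (specializes_iff_mem_closure.mpr h₂).mem_open s₂.isOpenEmbedding.isOpen_range ⟨v₂, rfl⟩
  rw [section_base g s₁ hs₁, section_base g s₂ hs₂] at he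
  have hw : w₁.1 = w₂.1 := by rw [← section_base g s₁ hs₁, ← section_base g s₂ hs₂, hw₁, hw₂]
  let W : X.Opens := V₁ ⊓ V₂
  have e₁ : W ≤ V₁ := inf_le_left
  have e₂ : W ≤ V₂ := inf_le_right
  let ζ : W := ⟨w₁.1, w₁.2, hw ▸ w₂.2⟩
  have hab := sections_eq g e₁ e₂ s₁ hs₁ s₂ hs₂ ζ (by
    rw [Scheme.Hom.comp_apply, show X.homOfLE e₁ ζ = w₁ from Subtype.ext (Scheme.homOfLE_apply e₁ _)]
    exact ⟨w₂, hw₂.trans hw₁.symm⟩)
  let x : W := ⟨v₁.1, v₁.2, he ▸ v₂.2⟩
  have h4 : X.homOfLE e₁ x = v₁ := Subtype.ext (Scheme.homOfLE_apply e₁ _)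
  have h5 : X.homOfLE e₂ x = v₂ := Subtype.ext ((Scheme.homOfLE_apply e₂ _).trans he)
  rw [← h4, ← h5, ← Scheme.Hom.comp_apply, ← Scheme.Hom.comp_apply, hab]

include hX in
theorem isOpenImmersion_sheet [IsSeparated g] (t : Gen g) :
    IsOpenImmersion ((sheetOpen g hX t).ι ≫ g) := by
  refine IsOpenImmersion.of_forall_source_exists _ (fun a b h => Subtype.ext
    (injOn_sheet g hX t a.2 b.2 h)) fun v => ?_
  obtain ⟨W, t', huW, hW, -, hsub, -⟩ := exists_gen_nhd g hX v.1
  have hle : W ≤ sheetOpen g hX t := eq_of_mem_sheet g hX v.2 (hsub huW) ▸ hsub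
  refine ⟨W, U.homOfLE hle, inferInstance, ⟨⟨v.1, huW⟩, Subtype.ext (by simp)⟩, ?_⟩
  rw [Scheme.homOfLE_ι_assoc]
  exact hW

include hX in
/-- **Separated étale schemes over a normal base with separably closed function field.** -/
theorem exists_coprod_iso [IsSeparated g] :
    ∃ (ι : Type u) (V : ι → X.Opens) (e : (∐ fun i => (V i : Scheme.{u})) ≅ U),
      (∀ i, (V i : Set X).Nonempty) ∧
      ∀ i, Sigma.ι (fun i => (V i : Scheme.{u})) i ≫ e.hom ≫ g = (V i).ι := by
  haveI h : ∀ t, IsOpenImmersion ((sheetOpen g hX t).ι ≫ g) := fun t => isOpenImmersion_sheet g hX t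
  let V : Gen g → X.Opens := fun t => ((sheetOpen g hX t).ι ≫ g).opensRange
  let f : ∀ t, (V t : Scheme.{u}) ⟶ U := fun t =>
    ((sheetOpen g hX t).ι ≫ g).isoOpensRange.inv ≫ (sheetOpen g hX t).ι
  have hf : ∀ t, Set.range (f t) = sheet g t := fun t => by
    simp only [f]
    have hs : Function.Surjective (((sheetOpen g hX t).ι ≫ g).isoOpensRange.inv) :=
      (((sheetOpen g hX t).ι ≫ g).isoOpensRange.inv).homeomorph.surjective
    rw [Scheme.Hom.comp_base, TopCat.coe_comp, Set.range_comp, hs.range_eq, Set.image_univ]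
    exact Scheme.Opens.range_ι _
  haveI : IsOpenImmersion (Sigma.desc f) :=
    isOpenImmersion_sigmaDesc _ f fun i j hij => Set.disjoint_left.mpr fun x hi hj =>
      hij (eq_of_mem_sheet g hX ((hf i).le hi) ((hf j).le hj))
  haveI : IsIso (Sigma.desc f) := by
    rw [isIso_iff_isOpenImmersion_and_surjective]
    refine ⟨inferInstance, ⟨fun x => ?_⟩⟩
    obtain ⟨t, ht⟩ := exists_mem_sheet g hX x
    obtain ⟨v, rfl⟩ := (hf t).ge ht
    exact ⟨Sigma.ι (fun t => (V t : Scheme.{u})) t v, by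
      rw [← Scheme.Hom.comp_apply, Sigma.ι_desc]⟩
  refine ⟨Gen g, V, asIso (Sigma.desc f), fun t => ?_, fun t => ?_⟩
  · exact ⟨genericPoint X, ⟨⟨t.1, subset_closure rfl⟩, t.2⟩⟩
  · rw [asIso_hom, Sigma.ι_desc_assoc]
    simp [f, V]

end Groth.Agent.NormSep24
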