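import Groth.Agent.Lib.NormSep24.Flasque
import Groth.Agent.Lib.NormSep24.LocalIso

/-!
# Vanishing of the cohomology of flasque sheaves; constant sheaves on irreducible schemes
-/

universe u

set_option maxHeartbeats 400000

open CategoryTheory CategoryTheory.Limits AlgebraicGeometry Opposite CategoryTheory.Abelian

namespace Groth.Agent.NormSep24

open Groth.Agent.EtSite

variable {X : Scheme.{u}}

/-- Constant sheaves on an irreducible base are flasque. -/
theorem flasque_const [IsIntegral X] (hX : ZL X) (M : Type) [AddCommGroup M] :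
    Flasque (EtCoh.const X M) := by
  let P : X.Etaleᵒᵖ ⥤ AddCommGrpCat.{u + 1} :=
    (Functor.const _).obj (AddCommGrpCat.of (ULift.{u + 1} M))
  let η : P ⟶ (EtCoh.const X M).obj := toSheafify X.smallEtaleTopology P
  have surj : ∀ V : X.Etale, IsOpenImmersion V.hom → Nonempty V.left →
      Function.Surjective (η.app (op V)) := by
    intro V hV hne s
    haveI := hV; haveI := hne
    haveI : IsIntegral V.left := isIntegral_of_isOpenImmersion (Y := X) V.hom
    haveI : PreirreducibleSpace V.left :=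
      (inferInstance : IrreducibleSpace V.left).toPreirreducibleSpace
    haveI : Presheaf.IsLocallySurjective X.smallEtaleTopology η :=
      inferInstanceAs (Presheaf.IsLocallySurjective _ (toSheafify X.smallEtaleTopology P))
    haveI : Presheaf.IsLocallyInjective X.smallEtaleTopology η :=
      inferInstanceAs (Presheaf.IsLocallyInjective _ (toSheafify X.smallEtaleTopology P))
    have hloc : ∀ x : V.left, ∃ (N : V.left.Opens) (m : P.obj (op (sub V N))),
        x ∈ N ∧ η.app _ m = (EtCoh.const X M).obj.map (subHom V N).op s := by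
      intro x
      obtain ⟨Y, f, y, ⟨b, hb⟩, hy⟩ :=
        (mem_et_iff V _).1 (Presheaf.imageSieve_mem X.smallEtaleTopology η s) x
      obtain ⟨W, hyW, hW⟩ := hX Y y
      haveI : IsOpenImmersion ((W.ι ≫ f.left) ≫ V.hom) := by
        rw [Category.assoc, MorphismProperty.Over.w f]; exact hW
      haveI : IsOpenImmersion (W.ι ≫ f.left) := IsOpenImmersion.of_comp (W.ι ≫ f.left) V.hom
      let N : V.left.Opens := (W.ι ≫ f.left).opensRange
      have h0 : (W.ι ≫ f.left).isoOpensRange.inv ≫ W.ι ≫ f.left = N.ι :=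
        Scheme.Hom.isoOpensRange_inv_comp _
      let r : sub V N ⟶ Y := MorphismProperty.Over.homMk ((W.ι ≫ f.left).isoOpensRange.inv ≫ W.ι)
        (((Category.assoc _ _ _).trans (congrArg ((W.ι ≫ f.left).isoOpensRange.inv ≫ ·)
          ((congrArg (W.ι ≫ ·) (MorphismProperty.Over.w f).symm).trans
            (Category.assoc _ _ _).symm))).trans
          ((Category.assoc _ _ _).symm.trans (congrArg (· ≫ V.hom) h0)))
      have hrf : r ≫ f = subHom V N := MorphismProperty.Over.Hom.ext
        ((Category.assoc _ _ _).trans h0)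
      refine ⟨N, P.map r.op b, ⟨⟨y, hyW⟩, hy⟩, ?_⟩
      rw [← hrf, ← res_res]
      exact (ConcreteCategory.congr_hom (η.naturality r.op) b).trans (congrArg _ hb)
    choose N m hxN hm using hloc
    obtain ⟨x₀⟩ := hne
    refine ⟨m x₀, sect_ext (EtCoh.const X M) (fun x => sub V (N x)) (fun x => subHom V (N x))
      (fun x => ⟨x, ⟨x, hxN x⟩, rfl⟩) fun x => ?_⟩
    have heq : (m x₀ : ULift.{u + 1} M) = m x := by
      obtain ⟨z, hz₀, hz⟩ := nonempty_preirreducible_inter (N x₀).2 (N x).2 ⟨x₀, hxN x₀⟩ ⟨x, hxN x⟩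
      have h1 : η.app (op (sub V (N x₀ ⊓ N x))) (m x₀) =
          η.app (op (sub V (N x₀ ⊓ N x))) (m x) := by
        have ha := ConcreteCategory.congr_hom (η.naturality (subLE (U := V)
          (inf_le_left : N x₀ ⊓ N x ≤ N x₀)).op) (m x₀)
        have hb := ConcreteCategory.congr_hom (η.naturality (subLE (U := V)
          (inf_le_right : N x₀ ⊓ N x ≤ N x)).op) (m x)
        refine (ha.trans ?_).trans hb.symm
        show (EtCoh.const X M).obj.map _ (η.app _ (m x₀)) =
          (EtCoh.const X M).obj.map _ (η.app _ (m x))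
        rw [hm, hm, res_res, res_res, subLE_fac, subLE_fac]
      obtain ⟨Y, f, y, hy, -⟩ := (mem_et_iff _ _).1
        (Presheaf.equalizerSieve_mem X.smallEtaleTopology η _ _ h1) ⟨z, hz₀, hz⟩
      exact hy
    show (EtCoh.const X M).obj.map (subHom V (N x)).op (η.app (op V) (m x₀)) = _
    rw [← hm x, ← heq]
    exact (ConcreteCategory.congr_hom (η.naturality (subHom V (N x)).op) (m x₀)).symm
  intro U hU W s
  rcases isEmpty_or_nonempty (sub U W).left with h | h
  · exact ⟨0, eq_of_isEmpty _ h _ _⟩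
  haveI := hU
  obtain ⟨m, hm⟩ := surj (sub U W) (inferInstanceAs (IsOpenImmersion (W.ι ≫ U.hom))) h s
  refine ⟨η.app (op U) m, ?_⟩
  rw [← hm]
  exact (ConcreteCategory.congr_hom (η.naturality (subHom U W).op) m).symm

theorem zl_of_base [IsIntegral X] (hX : Base X) : ZL X := fun U u => by
  let g : U.left ⟶ X := U.hom
  haveI : AlgebraicGeometry.Etale g := U.prop
  obtain ⟨W, hu, hW, -⟩ := exists_isOpenImmersion g hX u
  exact ⟨W, hu, hW⟩

theorem sheeted_of_base [IsIntegral X] (hX : Base X) (U : X.Etale) [IsSeparated U.hom] :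
    Sheeted U := by
  let g : U.left ⟶ X := U.hom
  haveI : AlgebraicGeometry.Etale g := U.prop
  haveI : IsSeparated g := ‹IsSeparated U.hom›
  exact ⟨Gen g, sheetOpen g hX, fun x => exists_mem_sheet g hX x,
    fun _ _ _ hs ht => eq_of_mem_sheet g hX hs ht, fun t => isOpenImmersion_sheet g hX t⟩

/-- The short exact sequence into an injective. -/
noncomputable def injSeq (F : EtCoh.Ab X) : ShortComplex (EtCoh.Ab X) :=
  ShortComplex.mk (Injective.ι F) (cokernel.π (Injective.ι F)) (cokernel.condition _)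

theorem injSeq_shortExact (F : EtCoh.Ab X) : (injSeq F).ShortExact :=
  { exact := ShortComplex.exact_cokernel (Injective.ι F)
    mono_f := inferInstanceAs (Mono (Injective.ι F))
    epi_g := inferInstanceAs (Epi (cokernel.π (Injective.ι F))) }

instance injective_injSeq (F : EtCoh.Ab X) : Injective (injSeq F).X₂ :=
  inferInstanceAs (Injective (Injective.under F))

theorem flasque_injSeq (hX : ZL X) {F : EtCoh.Ab X} (hF : Flasque F) : Flasque (injSeq F).X₃ :=
  flasque_quotient (injSeq_shortExact F) hF hX (flasque_of_injective _)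

/-- Cohomology of a flasque sheaf vanishes. -/
theorem subsingleton_H_of_flasque (hX : ZL X) : ∀ (q : ℕ) (F : EtCoh.Ab X), Flasque F →
    Subsingleton (EtCoh.H X F (q + 1))
  | 0, F, hF => by
    have hS := injSeq_shortExact F
    suffices H : ∀ z : Ext (EtCoh.const X ℤ) (injSeq F).X₁ 1, z = 0 from
      ⟨fun a b => (H a).trans (H b).symm⟩
    intro z
    obtain ⟨w, rfl⟩ := Ext.covariant_sequence_exact₁ (EtCoh.const X ℤ) hS z
      (Ext.eq_zero_of_injective _) (n₀ := 0) rfl
    obtain ⟨φ, rfl⟩ := (Ext.mk₀_bijective _ _).2 w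
    obtain ⟨t, ht⟩ := exists_lift_openImm hS hF hX
      (φ.hom.app (op (EtCoh.top X)) (EtStalk.oneSec X))
      (inferInstanceAs (IsOpenImmersion (𝟙 X)))
    let ψ : EtCoh.const X ℤ ⟶ (injSeq F).X₂ := ((EtCore.constAdj X).homEquiv _ _).symm
      ((AddCommGrpCat.uliftZMultiplesAddEquiv _).symm t)
    have hψ : ψ.hom.app (op (EtCoh.top X)) (EtStalk.oneSec X) = t := by
      have h := ((EtCore.constAdj X).homEquiv (AddCommGrpCat.of (ULift.{u + 1} ℤ))
        (injSeq F).X₂).apply_symm_apply ((AddCommGrpCat.uliftZMultiplesAddEquiv _).symm t)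
      rw [Adjunction.homEquiv_unit] at h
      refine (ConcreteCategory.congr_hom h (ULift.up 1)).trans ?_
      exact (AddCommGrpCat.uliftZMultiplesAddEquiv _).apply_symm_apply t
    have e : φ = ψ ≫ (injSeq F).g := by
      refine EtStalk.const_hom_ext ?_
      show _ = (injSeq F).g.hom.app _ (ψ.hom.app (op (EtCoh.top X)) (EtStalk.oneSec X))
      rw [hψ, ht]
    rw [e, ← Ext.mk₀_comp_mk₀, Ext.comp_assoc_of_second_deg_zero, hS.comp_extClass, Ext.comp_zero]
  | q + 1, F, hF => by
    have hS := injSeq_shortExact F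
    haveI := subsingleton_H_of_flasque hX q (injSeq F).X₃ (flasque_injSeq hX hF)
    suffices H : ∀ z : Ext (EtCoh.const X ℤ) (injSeq F).X₁ (q + 1 + 1), z = 0 from
      ⟨fun a b => (H a).trans (H b).symm⟩
    intro z
    obtain ⟨w, rfl⟩ := Ext.covariant_sequence_exact₁ (EtCoh.const X ℤ) hS z
      (Ext.eq_zero_of_injective _) (n₀ := q + 1) rfl
    rw [Subsingleton.elim (α := EtCoh.H X (injSeq F).X₃ (q + 1)) w 0, Ext.zero_comp]

variable {Y : Scheme.{u}} (f : X ⟶ Y)

theorem epi_push_g (hX : ZL X)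
    (hV : ∀ V : Y.Etale, IsAffine V.left → Sheeted ((EtCoh.bc f).obj V))
    {S : ShortComplex (EtCoh.Ab X)} (hS : S.ShortExact) (hA : Flasque S.X₁) :
    Epi ((EtCoh.push f).map S.g) := by
  rw [← Sheaf.isLocallySurjective_iff_epi']
  refine ⟨fun {V} s => ?_⟩
  rw [mem_et_iff]
  intro v
  obtain ⟨W, hW, hvW, -⟩ := exists_isAffineOpen_mem_and_subset (U := (⊤ : V.left.Opens)) (x := v) trivial
  obtain ⟨t, ht⟩ := exists_lift_sheeted hS hA hX
    (S.X₃.obj.map ((EtCoh.bc f).map (subHom V W)).op s) (hV (sub V W) hW)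
  exact ⟨sub V W, subHom V W, ⟨v, hvW⟩, ⟨t, ht⟩, rfl⟩

/-- Higher direct images of a flasque sheaf vanish. -/
theorem isZero_Rpush_of_flasque (hX : ZL X)
    (hV : ∀ V : Y.Etale, IsAffine V.left → Sheeted ((EtCoh.bc f).obj V)) :
    ∀ (q : ℕ) (F : EtCoh.Ab X), Flasque F → IsZero ((EtCoh.Rpush f (q + 1)).obj F)
  | 0, F, hF => by
    have hS := injSeq_shortExact F
    obtain ⟨T⟩ := RDerLES.exists_sesRes hS
    obtain ⟨-, ⟨w, -⟩, ⟨w', hw'⟩⟩ := RDerLES.exact_sequences (EtCoh.push f) T 0 1 rfl
    haveI := epi_push_g f hX hV hS hF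
    haveI : Epi (((EtCoh.push f).rightDerived 0).map (injSeq F).g) :=
      ((MorphismProperty.epimorphisms _).arrow_mk_iso_iff
        (Arrow.isoMk' _ _ ((EtCoh.push f).rightDerivedZeroIsoSelf.app (injSeq F).X₂)
          ((EtCoh.push f).rightDerivedZeroIsoSelf.app (injSeq F).X₃)
          ((EtCoh.push f).rightDerivedZeroIsoSelf.hom.naturality (injSeq F).g).symm)).2
        (inferInstanceAs (Epi ((EtCoh.push f).map (injSeq F).g)))
    exact hw'.isZero_X₂ ((cancel_epi _).1 (w.trans comp_zero.symm))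
      (((EtCoh.push f).isZero_rightDerived_obj_injective_succ 0 (injSeq F).X₂).eq_of_tgt _ _)
  | q + 1, F, hF => by
    have hS := injSeq_shortExact F
    obtain ⟨T⟩ := RDerLES.exists_sesRes hS
    obtain ⟨-, -, ⟨w', hw'⟩⟩ := RDerLES.exact_sequences (EtCoh.push f) T (q + 1) (q + 1 + 1) rfl
    exact hw'.isZero_X₂
      ((isZero_Rpush_of_flasque hX hV q (injSeq F).X₃ (flasque_injSeq hX hF)).eq_of_src _ _)
      (((EtCoh.push f).isZero_rightDerived_obj_injective_succ (q + 1) (injSeq F).X₂).eq_of_tgt _ _)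

theorem sheeted_bc [IsIntegral X] (hX : Base X) (V : Y.Etale) (hV : IsAffine V.left) :
    Sheeted ((EtCoh.bc f).obj V) := by
  haveI : IsAffine V.left := hV
  let g : V.left ⟶ Y := V.hom
  haveI : V.left.IsSeparated := ⟨(inferInstance : IsSeparated (terminal.from V.left))⟩
  haveI : IsSeparated g :=
    haveI : IsSeparated (g ≫ terminal.from Y) := by
      rw [terminal.comp_from g]; exact Scheme.IsSeparated.isSeparated_terminal_from
    IsSeparated.of_comp g (terminal.from Y)
  haveI : IsSeparated (pullback.snd g f) := inferInstance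
  haveI : IsSeparated ((EtCoh.bc f).obj V).hom :=
    ‹IsSeparated (pullback.snd g f)›
  exact sheeted_of_base hX _

/-- Higher direct images of a constant sheaf vanish. -/
theorem isZero_Rpush_const [IsIntegral X] (hX : Base X) (M : Type) [AddCommGroup M] (q : ℕ) :
    IsZero ((EtCoh.Rpush f (q + 1)).obj (EtCoh.const X M)) :=
  isZero_Rpush_of_flasque f (zl_of_base hX) (sheeted_bc f hX) q _
    (flasque_const (zl_of_base hX) M)

end Groth.Agent.NormSep24
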