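import Groth.Agent.Lib.NormSep24.ConstIso

/-!
# The unit for constant sheaves along the generic point and dense opens
-/

universe u

set_option maxHeartbeats 400000

open CategoryTheory CategoryTheory.Limits AlgebraicGeometry Opposite

namespace Groth.Agent.NormSep24

open Groth.Agent.EtSite

theorem irreducibleSpace_of_isEmbedding {A B : Type*} [TopologicalSpace A] [TopologicalSpace B]
    {φ : A → B} (h : Topology.IsEmbedding φ) (hr : IsIrreducible (Set.range φ)) :
    IrreducibleSpace A := by
  haveI : IrreducibleSpace (Set.range φ) := isIrreducible_iff_irreducibleSpace.mp hr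
  let e := h.toHomeomorph
  haveI : Nonempty A := ⟨e.symm ⟨hr.nonempty.choose, hr.nonempty.choose_spec⟩⟩
  haveI : PreirreducibleSpace A := ⟨by
    have h2 := (PreirreducibleSpace.isPreirreducible_univ (X := Set.range φ)).image
      e.symm e.symm.continuous.continuousOn
    rwa [Set.image_univ, e.symm.surjective.range_eq] at h2⟩
  exact ⟨inferInstance⟩

variable {Y : Scheme.{u}} [IsIntegral Y]

theorem irreducibleSpace_bc {X : Scheme.{u}} (f : X ⟶ Y) [IsPreimmersion f] (W : Y.Etale)
    (h : IsIrreducible (W.hom ⁻¹' Set.range f)) :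
    IrreducibleSpace ((EtCoh.bc f).obj W).left := by
  let g : W.left ⟶ Y := W.hom
  haveI : IsPreimmersion (pullback.fst g f) := inferInstance
  refine irreducibleSpace_of_isEmbedding (φ := EtStalk.bcFst f W)
    (pullback.fst g f).isEmbedding ?_
  rw [range_bcFst]
  exact h

theorem isIso_unit_const_open (hN : ∀ y : Y, IsIntegrallyClosed (Y.presheaf.stalk y)) (U : Y.Opens)
    (hU : (U : Set Y).Nonempty) (M : Type) [AddCommGroup M] :
    IsIso ((EtCoh.pullPushAdj U.ι).unit.app (EtCoh.const Y M)) := by
  refine isIso_unit_of_isIso_toPush M U.ι (isIso_toPush M U.ι fun V v => ?_)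
  obtain ⟨W, hv, hW⟩ := exists_irr hN V v
  refine ⟨W, hv, hW, irreducibleSpace_bc U.ι _ ?_⟩
  rw [Scheme.Opens.range_ι]
  haveI : IrreducibleSpace (sub V W).left := hW
  obtain ⟨x, hx⟩ := generic_mem_range (V := sub V W) hW.toNonempty
  refine ⟨⟨x, show (sub V W).hom x ∈ U by
    rw [hx]; exact ((genericPoint_spec Y).mem_open_set_iff U.2).mpr (by simpa using hU)⟩, ?_⟩
  exact (PreirreducibleSpace.isPreirreducible_univ (X := (sub V W).left)).open_subset
    (U.2.preimage (sub V W).hom.continuous) (Set.subset_univ _)

theorem isIso_unit_const_generic (hN : ∀ y : Y, IsIntegrallyClosed (Y.presheaf.stalk y))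
    (M : Type) [AddCommGroup M] :
    IsIso ((EtCoh.pullPushAdj (Y.fromSpecStalk (genericPoint Y))).unit.app (EtCoh.const Y M)) := by
  refine isIso_unit_of_isIso_toPush M _ (isIso_toPush M _ fun V v => ?_)
  obtain ⟨W, hv, hW⟩ := exists_irr hN V v
  refine ⟨W, hv, hW, irreducibleSpace_bc _ _ ?_⟩
  haveI : IrreducibleSpace (sub V W).left := hW
  let g : (sub V W).left ⟶ Y := (sub V W).hom
  haveI : AlgebraicGeometry.Etale g := (sub V W).prop
  have hr : Set.range (Y.fromSpecStalk (genericPoint Y)) = {genericPoint Y} := by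
    rw [Scheme.range_fromSpecStalk]
    ext y
    exact ⟨fun h => (h.antisymm ((genericPoint_spec Y).specializes trivial)).eq,
      fun h => h ▸ specializes_refl _⟩
  rw [hr]
  obtain ⟨x, hx⟩ := generic_mem_range (V := sub V W) hW.toNonempty
  have hsub : ∀ s, g s = genericPoint Y → genericPoint (sub V W).left = s := by
    intro s hs
    have hsp : genericPoint (sub V W).left ⤳ s := (genericPoint_spec _).specializes trivial
    refine eq_of_specializes_of_fibre g hsp ?_
    have h1 : g (genericPoint (sub V W).left) ⤳ genericPoint Y := hs ▸ hsp.map g.continuous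
    rw [hs]
    exact (h1.antisymm ((genericPoint_spec Y).specializes trivial)).eq
  have : (sub V W).hom ⁻¹' {genericPoint Y} = {genericPoint (sub V W).left} := by
    ext s
    exact ⟨fun hs => (hsub s hs).symm, fun hs => by rw [hs, hsub x hx]; exact hx⟩
  rw [this]
  exact isIrreducible_singleton

end Groth.Agent.NormSep24
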