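import Groth.Agent.Lib.NormSep24.ConstIso
import Groth.Agent.Lib.NormalSmooth12.Basic
import Groth.Agent.Lib.Dom8.Maximal
import Groth.Prelude.Def_Pi1
import Mathlib.AlgebraicGeometry.IdealSheaf.Subscheme

/-!
# Constant sheaves along dense quasi-compact opens of normal schemes
-/

universe u

set_option maxHeartbeats 800000

open CategoryTheory CategoryTheory.Limits AlgebraicGeometry Opposite TopologicalSpace

namespace Groth.Agent.NormSep24

open Groth.Agent.EtSite

/-- Étale schemes over normal schemes have integral local rings. -/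
theorem isDomain_stalk {U X : Scheme.{u}} (g : U ⟶ X) [AlgebraicGeometry.Etale g]
    (hX : Pi1.IsNormalScheme X) (u : U) : IsDomain (U.presheaf.stalk u) := by
  obtain ⟨O, hO, hxO, -⟩ :=
    exists_isAffineOpen_mem_and_subset (X := X) (x := g u) (U := ⊤) trivial
  obtain ⟨V, hV, huV, hVO⟩ := exists_isAffineOpen_mem_and_subset (U := g ⁻¹ᵁ O) (x := u) hxO
  have he := HasRingHomProperty.appLE (P := @AlgebraicGeometry.Etale) g inferInstance ⟨O, hO⟩ ⟨V, hV⟩ hVO
  algebraize [(g.appLE O V hVO).hom]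
  have hA : EGA4.IsNormalRing Γ(X, O) := by
    intro p hp
    let x : O := ⟨hO.fromSpec ⟨p, hp⟩, hO.range_fromSpec.le ⟨_, rfl⟩⟩
    have hx : hO.primeIdealOf x = ⟨p, hp⟩ :=
      hO.fromSpec.isOpenEmbedding.injective (by rw [hO.fromSpec_primeIdealOf])
    let := X.presheaf.algebra_section_stalk x
    haveI : IsLocalization.AtPrime (X.presheaf.stalk x.1) p := by
      have := hO.isLocalization_stalk x
      rwa [hx] at this
    exact NormalSmooth12.normalDomain_of_ringEquiv
      (IsLocalization.algEquiv p.primeCompl (X.presheaf.stalk x.1) (Localization.AtPrime p)).toRingEquiv (hX x.1)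
  let q := hV.primeIdealOf ⟨u, huV⟩
  let := U.presheaf.algebra_section_stalk (⟨u, huV⟩ : V)
  haveI : IsLocalization.AtPrime (U.presheaf.stalk u) q.asIdeal := hV.isLocalization_stalk ⟨u, huV⟩
  have hB : EGA4.IsNormalRing Γ(U, V) := NormalSmooth12.isNormalRing_of_smooth hA
  haveI := (hB q.asIdeal).1
  exact MulEquiv.isDomain (Localization.AtPrime q.asIdeal)
    (IsLocalization.algEquiv q.asIdeal.primeCompl (U.presheaf.stalk u)
      (Localization.AtPrime q.asIdeal)).toMulEquiv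

/-- The generalizations of a point with integral local ring have a common generalization. -/
theorem exists_generic {U : Scheme.{u}} (u : U) (h : IsDomain (U.presheaf.stalk u)) :
    ∃ η : U, η ⤳ u ∧ ∀ y : U, y ⤳ u → η ⤳ y := by
  haveI := h
  let i : Spec (U.presheaf.stalk u) ⟶ U := U.fromSpecStalk u
  let b : Spec (U.presheaf.stalk u) := (⟨⊥, Ideal.isPrime_bot⟩ : PrimeSpectrum (U.presheaf.stalk u))
  have hb : ∀ p : Spec (U.presheaf.stalk u), b ⤳ p := fun p =>
    (PrimeSpectrum.le_iff_specializes b p).1 (bot_le : (⊥ : Ideal (U.presheaf.stalk u)) ≤ p.asIdeal)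
  have hr : Set.range i = {y | y ⤳ u} := Scheme.range_fromSpecStalk
  have key : ∀ y, y ⤳ u → i b ⤳ y := fun y hy => by
    obtain ⟨p, rfl⟩ : y ∈ Set.range i := hr ▸ hy
    exact (hb p).map i.continuous
  exact ⟨i b, hr.le ⟨b, rfl⟩, key⟩

/-- Points in the closure of the image of a quasi-compact morphism are specializations of the image. -/
theorem exists_specializes {A S : Scheme.{u}} (f : A ⟶ S) [QuasiCompact f] {v : S}
    (hv : v ∈ closure (Set.range f)) : ∃ a, f a ⤳ v := by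
  obtain ⟨V, hV, hvV, -⟩ := exists_isAffineOpen_mem_and_subset (X := S) (x := v) (U := ⊤) trivial
  obtain ⟨R, g, hg⟩ := isCompact_iff_exists.1 (f.isCompact_preimage hV.isCompact)
  have hg' : Set.range g = f ⁻¹' (V : Set S) := hg
  have hgf : Set.range (g ≫ f) = Set.range f ∩ (V : Set S) := by
    have h : Set.range (g ≫ f) = f '' Set.range g := Set.range_comp f g
    rw [h, hg', Set.image_preimage_eq_inter_range, Set.inter_comm]
  let h := IsOpenImmersion.lift hV.fromSpec (g ≫ f) (by rw [hV.range_fromSpec, hgf]; exact Set.inter_subset_right)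
  have hfac : h ≫ hV.fromSpec = g ≫ f := IsOpenImmersion.lift_fac _ _ _
  obtain ⟨φ, hφ⟩ := Spec.homEquiv.symm.surjective h
  obtain ⟨q, hq⟩ : v ∈ Set.range hV.fromSpec := by rw [hV.range_fromSpec]; exact hvV
  have hr : Set.range (g ≫ f) = hV.fromSpec '' Set.range h := by
    rw [← hfac]
    exact Set.range_comp hV.fromSpec h
  have hqc : q ∈ closure (Set.range h) := by
    have hc : v ∈ closure (Set.range f ∩ (V : Set S)) := by
      rw [Set.inter_comm]
      exact V.isOpen.inter_closure ⟨hvV, hv⟩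
    rwa [← hgf, hr, ← hq, ← Set.mem_preimage, ← hV.fromSpec.isOpenEmbedding.isEmbedding.closure_eq_preimage_closure_image] at hc
  have hh : (h : _ → _) = PrimeSpectrum.comap φ.hom := by rw [← hφ]; rfl
  let q' : PrimeSpectrum Γ(S, V) := q
  have hqc' : q' ∈ closure (Set.range (PrimeSpectrum.comap φ.hom)) := hh ▸ hqc
  rw [PrimeSpectrum.closure_range_comap, PrimeSpectrum.mem_zeroLocus, SetLike.coe_subset_coe] at hqc'
  have := q'.2
  obtain ⟨p, hp, hpq⟩ := Ideal.exists_minimalPrimes_le hqc'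
  obtain ⟨p', hp', -, e⟩ := Ideal.exists_comap_eq_of_mem_minimalPrimes φ.hom p hp
  let a : Spec R := (⟨p', hp'⟩ : PrimeSpectrum R)
  have ha : h a ⤳ q := by
    rw [hh]
    exact (PrimeSpectrum.le_iff_specializes _ q').1 (by
      show Ideal.comap φ.hom p' ≤ q'.asIdeal
      rw [e]
      exact hpq)
  refine ⟨g a, ?_⟩
  rw [← Scheme.Hom.comp_apply, ← hfac, Scheme.Hom.comp_apply, ← hq]
  exact ha.map hV.fromSpec.continuous

variable {X : Scheme.{u}} (M : Type) [AddCommGroup M]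

/-- Two étale opens with a common point have a common refinement through it. -/
theorem exists_common {T Y₁ Y₂ : X.Etale} (f₁ : Y₁ ⟶ T) (f₂ : Y₂ ⟶ T) (y₁ : Y₁.left) (y₂ : Y₂.left)
    (h : f₁.left y₁ = f₂.left y₂) :
    ∃ (P : X.Etale) (p₁ : P ⟶ Y₁) (p₂ : P ⟶ Y₂) (w : P.left),
      p₁ ≫ f₁ = p₂ ≫ f₂ ∧ p₁.left w = y₁ ∧ p₂.left w = y₂ := by
  let g₁ : Y₁.left ⟶ T.left := f₁.left
  let g₂ : Y₂.left ⟶ T.left := f₂.left
  let h₀ : Y₁.left ⟶ X := Y₁.hom
  haveI : AlgebraicGeometry.Etale h₀ := Y₁.prop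
  haveI : AlgebraicGeometry.Etale g₂ := EtStalk.etale_left f₂
  let P : X.Etale := Scheme.Etale.mk (pullback.fst g₁ g₂ ≫ h₀)
  let p₁ : P ⟶ Y₁ := MorphismProperty.Over.homMk (pullback.fst g₁ g₂) rfl
  have hw : pullback.snd g₁ g₂ ≫ Y₂.hom = pullback.fst g₁ g₂ ≫ Y₁.hom := by
    rw [← MorphismProperty.Over.w f₂, ← MorphismProperty.Over.w f₁]
    exact (Category.assoc _ _ _).symm.trans
      ((congrArg (· ≫ T.hom) pullback.condition.symm).trans (Category.assoc _ _ _))
  let p₂ : P ⟶ Y₂ := MorphismProperty.Over.homMk (pullback.snd g₁ g₂) hw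
  obtain ⟨w, hw₁, hw₂⟩ := Scheme.Pullback.exists_preimage_pullback (f := g₁) (g := g₂) y₁ y₂ h
  exact ⟨P, p₁, p₂, w, MorphismProperty.Over.Hom.ext pullback.condition, hw₁, hw₂⟩

/-- Local values of a section of a constant sheaf. -/
theorem exists_value (T : X.Etale) (s : (EtCoh.const X M).obj.obj (op T)) (z : T.left) :
    ∃ (Y : X.Etale) (f : Y ⟶ T) (m : ULift.{u + 1} M),
      z ∈ Set.range f.left ∧ cst M Y m = (EtCoh.const X M).obj.map f.op s := by
  obtain ⟨Y, f, y, ⟨b, hb⟩, hy⟩ := (mem_et_iff T _).1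
    (Presheaf.imageSieve_mem X.smallEtaleTopology (toSheafify X.smallEtaleTopology
      ((Functor.const X.Etaleᵒᵖ).obj (AddCommGrpCat.of (ULift.{u + 1} M)))) s) z
  exact ⟨Y, f, b, ⟨y, hy⟩, hb⟩

theorem value_unique {T Y₁ Y₂ : X.Etale} (f₁ : Y₁ ⟶ T) (f₂ : Y₂ ⟶ T) (m₁ m₂ : ULift.{u + 1} M)
    (s : (EtCoh.const X M).obj.obj (op T))
    (h₁ : cst M Y₁ m₁ = (EtCoh.const X M).obj.map f₁.op s)
    (h₂ : cst M Y₂ m₂ = (EtCoh.const X M).obj.map f₂.op s)
    {z : T.left} (hz₁ : z ∈ Set.range f₁.left) (hz₂ : z ∈ Set.range f₂.left) : m₁ = m₂ := by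
  obtain ⟨y₁, hy₁⟩ := hz₁
  obtain ⟨y₂, hy₂⟩ := hz₂
  obtain ⟨P, p₁, p₂, w, hp, -, -⟩ := exists_common f₁ f₂ y₁ y₂ (hy₁.trans hy₂.symm)
  refine cst_injective M P ⟨w⟩ ?_
  rw [← cst_res M p₁, ← cst_res M p₂, h₁, h₂, res_res, res_res, hp]

variable {U : Scheme.{u}} (j : U ⟶ X) [IsOpenImmersion j] [QuasiCompact j]

theorem isIso_toPush_dense (hX : Pi1.IsNormalScheme X) (hj : Dense (Set.range j)) :
    IsIso (toPush M j) := by
  have hd : ∀ V : X.Etale, Dense (Set.range (EtStalk.bcFst j V)) := fun V => by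
    rw [range_bcFst]
    let g : V.left ⟶ X := V.hom
    haveI : AlgebraicGeometry.Etale g := V.prop
    exact hj.preimage g.isOpenMap
  refine (Sheaf.isLocallyBijective_iff_isIso (toPush M j)).mp ⟨⟨fun {V} s t hst => ?_⟩, ⟨fun {V} s => ?_⟩⟩
  · rw [mem_et_iff]
    intro v
    obtain ⟨V⟩ := V
    obtain ⟨Y₁, f₁, m₁, ⟨y₁, hy₁⟩, h₁⟩ := exists_value M V s v
    obtain ⟨Y₂, f₂, m₂, ⟨y₂, hy₂⟩, h₂⟩ := exists_value M V t v
    obtain ⟨P, p₁, p₂, w, hp, hw₁, -⟩ := exists_common f₁ f₂ y₁ y₂ (hy₁.trans hy₂.symm)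
    refine ⟨P, p₁ ≫ f₁, w, ?_, (congrArg f₁.left hw₁).trans hy₁⟩
    show (EtCoh.const X M).obj.map (p₁ ≫ f₁).op s = (EtCoh.const X M).obj.map (p₁ ≫ f₁).op t
    have e₁ : (EtCoh.const X M).obj.map (p₁ ≫ f₁).op s = cst M P m₁ := by
      rw [← res_res, ← h₁, cst_res]
    have e₂ : (EtCoh.const X M).obj.map (p₁ ≫ f₁).op t = cst M P m₂ := by
      rw [hp, ← res_res, ← h₂, cst_res]
    rw [e₁, e₂]
    refine congrArg (cst M P) (cst_injective M ((EtCoh.bc j).obj P) ?_ ?_)
    · obtain ⟨_, ⟨z, rfl⟩, -⟩ := (hd P).inter_open_nonempty Set.univ isOpen_univ ⟨w, trivial⟩ |>.imp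
        fun x hx => And.intro hx.2 hx.1
      exact ⟨z⟩
    · rw [← toPush_cst, ← toPush_cst, ← e₁, ← e₂]
      refine (NatTrans.naturality_apply (toPush M j).hom (p₁ ≫ f₁).op s).trans (Eq.trans ?_
        (NatTrans.naturality_apply (toPush M j).hom (p₁ ≫ f₁).op t).symm)
      exact congrArg _ hst
  · rw [mem_et_iff]
    intro v
    let g : V.left ⟶ X := V.hom
    haveI : AlgebraicGeometry.Etale g := V.prop
    let p : ((EtCoh.bc j).obj V).left ⟶ V.left := EtStalk.bcFst j V
    haveI : IsOpenImmersion p := inferInstanceAs (IsOpenImmersion (pullback.fst g j))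
    haveI : QuasiCompact p := inferInstanceAs (QuasiCompact (pullback.fst g j))
    let T := (EtCoh.bc j).obj V
    choose Y f m hz hm using exists_value M T s
    obtain ⟨η, hη, hmax⟩ := exists_generic v (isDomain_stalk g hX v)
    obtain ⟨a, ha⟩ := exists_specializes p ((hd V).closure_eq.symm ▸ Set.mem_univ v)
    obtain ⟨z₀, hz₀⟩ : η ∈ Set.range p :=
      (hmax _ ha).mem_open p.isOpenEmbedding.isOpen_range ⟨a, rfl⟩
    let Cs : Set T.left := ⋃ z ∈ {z | m z ≠ m z₀}, Set.range (f z).left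
    let As : Set T.left := ⋃ z ∈ {z | m z = m z₀}, Set.range (f z).left
    have hCo : IsOpen Cs := isOpen_biUnion fun z _ => isOpen_range_left (f z)
    have hAo : IsOpen As := isOpen_biUnion fun z _ => isOpen_range_left (f z)
    have hAC : Csᶜ = As := by
      ext z
      constructor
      · intro hzC
        by_cases h : m z = m z₀
        · exact Set.mem_biUnion h (hz z)
        · exact absurd (Set.mem_biUnion (s := {z | m z ≠ m z₀}) h (hz z)) hzC
      · intro hzA hzC
        obtain ⟨a, ha, ha'⟩ := Set.mem_iUnion₂.1 hzA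
        obtain ⟨c, hc, hc'⟩ := Set.mem_iUnion₂.1 hzC
        exact hc ((value_unique M (f c) (f a) _ _ s (hm c) (hm a) hc' ha').trans ha)
    have hCc : IsClosed Cs := ⟨hAC ▸ hAo⟩
    have hv : v ∉ closure (p '' Cs) := by
      intro hv
      let I := Scheme.IdealSheafData.vanishingIdeal (⟨Cs, hCc⟩ : Closeds T.left)
      have hI : Set.range I.subschemeι = Cs := by
        rw [Scheme.IdealSheafData.range_subschemeι, Scheme.IdealSheafData.coe_support_vanishingIdeal]
        rfl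
      haveI : QuasiCompact (I.subschemeι ≫ p) := inferInstance
      obtain ⟨c, hc⟩ := exists_specializes (I.subschemeι ≫ p) (v := v) (by
        have : Set.range (I.subschemeι ≫ p) = p '' Cs := by rw [← hI]; exact Set.range_comp p I.subschemeι
        rw [this]; exact hv)
      have hcC : I.subschemeι c ∈ Cs := hI.le ⟨c, rfl⟩
      have h1 : z₀ ⤳ I.subschemeι c := p.isOpenEmbedding.isInducing.specializes_iff.1 (hz₀ ▸ hmax _ hc)
      obtain ⟨z, hz', hz''⟩ := Set.mem_iUnion₂.1 (h1.mem_open hCo hcC)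
      exact hz' (value_unique M (f z) (f z₀) _ _ s (hm z) (hm z₀) hz'' (hz z₀))
    let W : V.left.Opens := ⟨(closure (p '' Cs))ᶜ, isClosed_closure.isOpen_compl⟩
    refine ⟨sub V W, subHom V W, ⟨v, hv⟩, ⟨cst M (sub V W) (m z₀), ?_⟩, rfl⟩
    rw [toPush_cst]
    let b : (EtCoh.bc j).obj (sub V W) ⟶ T := (EtCoh.bc j).map (subHom V W)
    show cst M _ (m z₀) = (EtCoh.const U M).obj.map b.op s
    have hbp : ∀ t, p (b.left t) ∈ W := fun t => by
      have h : b.left ≫ p = EtStalk.bcFst j (sub V W) ≫ (subHom V W).left := (EtCoh.isPullback_bc_map j (subHom V W)).w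
      rw [← Scheme.Hom.comp_apply, h, Scheme.Hom.comp_apply]
      exact (EtStalk.bcFst j (sub V W) t).2
    have : ∀ t, ∃ z, m z = m z₀ ∧ b.left t ∈ Set.range (f z).left := fun t => by
      have hA : b.left t ∈ As := hAC ▸ fun hC => hbp t (subset_closure ⟨_, hC, rfl⟩)
      obtain ⟨z, h1, h2⟩ := Set.mem_iUnion₂.1 hA
      exact ⟨z, h1, h2⟩
    choose zt hzt hbt using this
    choose yt hyt using hbt
    choose P q₁ q₂ w hq hw₁ hw₂ using fun t => exists_common b (f (zt t)) t (yt t) (hyt t).symm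
    refine sect_ext (EtCoh.const U M) P q₁ (fun t => ⟨t, w t, hw₁ t⟩) fun t => ?_
    rw [cst_res, res_res, hq t, ← res_res, ← hm, cst_res, hzt t]

end Groth.Agent.NormSep24
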