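import Mathlib.RingTheory.Henselian
import Mathlib.RingTheory.Polynomial.GaussLemma
import Mathlib.FieldTheory.IsSepClosed
import Mathlib.Algebra.Polynomial.Lifts
import Mathlib.Algebra.Polynomial.Eval.Irreducible

/-!
# Normal local domains with separably closed fraction field are strictly henselian
-/

universe u

open Polynomial IsLocalRing

namespace Groth.Agent.NormSep24

variable {R : Type u} [CommRing R] [IsDomain R] [IsLocalRing R] [IsIntegrallyClosed R]
  (K : Type u) [Field K] [Algebra R K] [IsFractionRing R K] [IsSepClosed K]

include K in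
/-- An irreducible monic polynomial with nonzero derivative is linear. -/
theorem natDegree_eq_one {f : R[X]} (hf : f.Monic) (hirr : Irreducible f)
    (hd : derivative f ≠ 0) : f.natDegree = 1 := by
  have hi : Irreducible (f.map (algebraMap R K)) :=
    (hf.irreducible_iff_irreducible_map_fraction_map (K := K)).mp hirr
  have hsep : (f.map (algebraMap R K)).Separable := by
    rw [separable_iff_derivative_ne_zero hi, derivative_map]
    exact fun h => hd (Polynomial.map_injective _ (IsFractionRing.injective R K)
      (h.trans (Polynomial.map_zero _).symm))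
  have h1 := natDegree_eq_of_degree_eq_some
    (IsSepClosed.degree_eq_one_of_irreducible K hi hsep)
  rwa [hf.natDegree_map] at h1

include K in
theorem exists_root_of_simple (a₀ : R) (n : ℕ) : ∀ f : R[X], f.natDegree ≤ n → f.Monic →
    f.eval a₀ ∈ maximalIdeal R → IsUnit (f.derivative.eval a₀) →
      ∃ a : R, f.IsRoot a ∧ a - a₀ ∈ maximalIdeal R := by
  induction n with
  | zero =>
    intro f hn hf h0 _
    rw [(hf.natDegree_eq_zero.mp (Nat.le_zero.mp hn))] at h0
    exact absurd (by simpa using h0) (Ideal.ne_top_iff_one _ |>.mp (maximalIdeal.isMaximal R).ne_top)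
  | succ n ih =>
    intro f hn hf h0 hu
    have hf1 : f ≠ 1 := fun h => by subst h; simp at hu
    by_cases hirr : Irreducible f
    · have hd : derivative f ≠ 0 := fun h => by rw [h] at hu; simp at hu
      have e := hf.eq_X_add_C (natDegree_eq_one K hf hirr hd)
      refine ⟨-f.coeff 0, ?_, ?_⟩
      · rw [IsRoot.def, e]; simp
      · have h2 : -f.coeff 0 - a₀ = -(f.eval a₀) := by
          conv_rhs => rw [e]
          simp; ring
        rw [h2]; exact neg_mem h0
    · rw [irreducible_of_monic hf hf1] at hirr
      push Not at hirr
      obtain ⟨g, h, hg, hh, e, hg1, hh1⟩ := hirr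
      have hdg : g.natDegree + h.natDegree = f.natDegree := by rw [← hg.natDegree_mul hh, e]
      have hg0 : g.natDegree ≠ 0 := fun h' => hg1 (hg.natDegree_eq_zero.mp h')
      have hh0 : h.natDegree ≠ 0 := fun h' => hh1 (hh.natDegree_eq_zero.mp h')
      rw [← e, derivative_mul, eval_add, eval_mul, eval_mul] at hu
      rw [← e, eval_mul] at h0
      rcases (maximalIdeal.isMaximal R).isPrime.mem_or_mem h0 with hm | hm
      · have : IsUnit (g.derivative.eval a₀) := by
          by_contra hnu
          exact (mem_maximalIdeal _).mp (add_mem (Ideal.mul_mem_right _ _ hnu)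
            (Ideal.mul_mem_right _ _ hm)) hu
        obtain ⟨a, ha, hma⟩ := ih g (by omega) hg hm this
        exact ⟨a, by rw [IsRoot.def, ← e, eval_mul, ha.eq_zero, zero_mul], hma⟩
      · have : IsUnit (h.derivative.eval a₀) := by
          by_contra hnu
          exact (mem_maximalIdeal _).mp (add_mem (Ideal.mul_mem_left _ _ hm)
            (Ideal.mul_mem_left _ _ hnu)) hu
        obtain ⟨a, ha, hma⟩ := ih h (by omega) hh hm this
        exact ⟨a, by rw [IsRoot.def, ← e, eval_mul, ha.eq_zero, mul_zero], hma⟩

include K in
theorem henselianLocalRing : HenselianLocalRing R where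
  is_henselian f hf a₀ h0 hu := exists_root_of_simple K a₀ f.natDegree f le_rfl hf h0 hu

include K in
theorem isSepClosed_residueField : IsSepClosed (ResidueField R) := by
  refine IsSepClosed.of_exists_root _ fun p hp hirr hsep => ?_
  obtain ⟨g, hg, hdeg, hgm⟩ := lifts_and_degree_eq_and_monic (f := residue R)
    ((mem_lifts p).mpr (map_surjective _ residue_surjective p)) hp
  have hgi : Irreducible g :=
    Monic.irreducible_of_irreducible_map (residue R) g hgm (by rwa [hg])
  have hd : derivative g ≠ 0 := fun h => by
    have := (separable_iff_derivative_ne_zero hirr).mp hsep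
    exact this (by rw [← hg, derivative_map, h, Polynomial.map_zero])
  have e := hgm.eq_X_add_C (natDegree_eq_one K hgm hgi hd)
  exact ⟨residue R (-g.coeff 0), by rw [← hg, e]; simp⟩

end Groth.Agent.NormSep24
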