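import Groth.Agent.Lib.NormSep24.LocalIso
import Groth.Agent.Lib.EtStalk.EtLift

/-!
# Étale affine schemes over closed subschemes
-/

universe u

set_option maxHeartbeats 400000

open CategoryTheory CategoryTheory.Limits AlgebraicGeometry Opposite

namespace Groth.Agent.NormSep24

/-- An affine étale scheme over a closed subscheme of an affine scheme is the restriction of an
affine étale scheme. -/
theorem exists_isPullback {V Z X : Scheme.{u}} [IsAffine X] (i : Z ⟶ X) [IsClosedImmersion i]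
    (φ : V ⟶ Z) [AlgebraicGeometry.Etale φ] [IsAffine V] :
    ∃ (U : Scheme.{u}) (_ : IsAffine U) (g : U ⟶ X) (_ : AlgebraicGeometry.Etale g) (a : V ⟶ U),
      IsPullback a φ g i := by
  haveI : IsClosedImmersion (i ≫ X.isoSpec.hom) := inferInstance
  obtain ⟨I, e, he⟩ := IsClosedImmersion.Spec_iff.1 this
  let A := Γ(X, ⊤)
  obtain ⟨β, hβ⟩ := Spec.map_surjective (V.isoSpec.inv ≫ φ ≫ e.hom)
  letI : Algebra (A ⧸ I) Γ(V, ⊤) := β.hom.toAlgebra
  letI : Algebra A Γ(V, ⊤) := (β.hom.comp (Ideal.Quotient.mk I)).toAlgebra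
  haveI : IsScalarTower A (A ⧸ I) Γ(V, ⊤) := IsScalarTower.of_algebraMap_eq fun _ => rfl
  haveI : AlgebraicGeometry.Etale (Spec.map β) := by rw [hβ]; infer_instance
  haveI : Algebra.Etale (A ⧸ I) Γ(V, ⊤) := HasRingHomProperty.Spec_iff.1 this
  obtain ⟨E, _, _, _, ψ, hψ, hker⟩ := Hens.exists_etale_lift A I Γ(V, ⊤)
  haveI : AlgebraicGeometry.Etale (Spec.map (CommRingCat.ofHom (algebraMap A E))) :=
    HasRingHomProperty.Spec_iff.2 (RingHom.etale_algebraMap.2 ‹Algebra.Etale A E›)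
  have hp := isPullback_SpecMap_of_isPushout _ _ _ _
    (EtStalk.isPushout_quotient I ψ.toRingHom hψ hker (RingHom.ext ψ.commutes))
  refine ⟨Spec (CommRingCat.of E), inferInstance,
    Spec.map (CommRingCat.ofHom (algebraMap A E)) ≫ X.isoSpec.inv, inferInstance,
    V.isoSpec.hom ≫ Spec.map (CommRingCat.ofHom ψ.toRingHom),
    hp.of_iso V.isoSpec.symm (Iso.refl _) e.symm X.isoSpec.symm ?_ ?_ ?_ ?_⟩
  · simp
  · show Spec.map β ≫ e.inv = V.isoSpec.inv ≫ φ
    rw [hβ]; simp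
  · simp
  · show Spec.map (CommRingCat.ofHom (Ideal.Quotient.mk I)) ≫ X.isoSpec.inv = e.inv ≫ i
    rw [Iso.eq_inv_comp, ← Category.assoc, ← he]
    simp

variable {V Z X : Scheme.{u}} [IsAffine X] [IsIntegral X]

/-- An affine étale scheme over a closed subscheme is a finite sum of opens. -/
theorem exists_coprod_iso_closed (hX : Base X) (i : Z ⟶ X) [IsClosedImmersion i] (φ : V ⟶ Z)
    [AlgebraicGeometry.Etale φ] [IsAffine V] :
    ∃ (ι : Type u) (_ : Finite ι) (W : ι → Z.Opens) (e : (∐ fun k => (W k : Scheme.{u})) ≅ V),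
      ∀ k, Sigma.ι (fun k => (W k : Scheme.{u})) k ≫ e.hom ≫ φ = (W k).ι := by
  obtain ⟨U, _, g, _, a, hpb⟩ := exists_isPullback i φ
  obtain ⟨ι, O, e, hne, he⟩ := exists_coprod_iso g hX
  let f : ∀ t, (O t : Scheme.{u}) ⟶ U := fun t => Sigma.ι (fun t => (O t : Scheme.{u})) t ≫ e.hom
  have hf : ∀ t, f t ≫ g = (O t).ι := fun t => by
    show (_ ≫ _) ≫ g = _
    rw [Category.assoc, he]
  haveI : ∀ t, IsOpenImmersion (f t) := fun t => inferInstanceAs (IsOpenImmersion (_ ≫ _))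
  have hcov : ∀ x : U, ∃ t, x ∈ Set.range (f t) := fun x => by
    obtain ⟨t, y, hy⟩ := (sigmaOpenCover fun t => (O t : Scheme.{u})).exists_eq (e.inv x)
    refine ⟨t, y, ?_⟩
    show (_ ≫ e.hom) y = x
    rw [Scheme.Hom.comp_apply]
    erw [hy]
    rw [← Scheme.Hom.comp_apply, e.inv_hom_id]; rfl
  have hdisj : ∀ {s t : ι} (x : U), x ∈ Set.range (f s) → x ∈ Set.range (f t) → s = t := by
    rintro s t x ⟨p, rfl⟩ ⟨q, hq⟩
    by_contra h
    have := e.hom.isOpenEmbedding.injective (hq : e.hom (Sigma.ι (fun t => (O t : Scheme.{u})) t q) =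
      e.hom (Sigma.ι (fun t => (O t : Scheme.{u})) s p))
    exact (disjoint_iff.mp
      (disjoint_opensRange_sigmaι (fun t => (O t : Scheme.{u})) t s (Ne.symm h))).le
      (⟨⟨q, rfl⟩, ⟨p, this.symm⟩⟩ :
        Sigma.ι (fun t => (O t : Scheme.{u})) t q ∈
          (Sigma.ι (fun t => (O t : Scheme.{u})) t).opensRange ⊓
            (Sigma.ι (fun t => (O t : Scheme.{u})) s).opensRange)
  haveI : Finite ι := by
    obtain ⟨s, hs⟩ := isCompact_univ.elim_finite_subcover (fun t => Set.range (f t))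
      (fun t => (f t).isOpenEmbedding.isOpen_range) (fun x _ => Set.mem_iUnion.mpr (hcov x))
    have : (Set.univ : Set ι) ⊆ s := fun t _ => by
      obtain ⟨v, hv⟩ := hne t
      obtain ⟨j, hj, hx⟩ := Set.mem_iUnion₂.mp (hs (Set.mem_univ (f t ⟨v, hv⟩)))
      exact hdisj _ ⟨_, rfl⟩ hx ▸ hj
    exact Set.finite_univ_iff.mp (s.finite_toSet.subset this)
  let W : ι → Z.Opens := fun t => i ⁻¹ᵁ O t
  let h : ∀ t, (W t : Scheme.{u}) ⟶ V := fun t => hpb.lift ((i ∣_ O t) ≫ f t) (W t).ι (by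
    rw [Category.assoc, hf, morphismRestrict_ι])
  have hh : ∀ t, h t ≫ φ = (W t).ι := fun t => hpb.lift_snd _ _ _
  have hha : ∀ t, h t ≫ a = (i ∣_ O t) ≫ f t := fun t => hpb.lift_fst _ _ _
  haveI : ∀ t, IsOpenImmersion (h t) := fun t => by
    haveI : AlgebraicGeometry.Etale (h t ≫ φ) := by rw [hh]; infer_instance
    haveI : AlgebraicGeometry.Etale (h t) := Etale.of_comp (h t) φ
    haveI : Mono (h t ≫ φ) := by rw [hh]; infer_instance
    haveI : Mono (h t) := mono_of_mono (h t) φ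
    exact IsOpenImmersion.of_flat_of_mono (h t)
  have hr : ∀ t p, p ∈ Set.range (h t) → a p ∈ Set.range (f t) := by
    rintro t _ ⟨q, rfl⟩
    exact ⟨(i ∣_ O t) q, by rw [← Scheme.Hom.comp_apply, ← hha, Scheme.Hom.comp_apply]⟩
  haveI : IsOpenImmersion (Sigma.desc h) :=
    isOpenImmersion_sigmaDesc _ h fun s t hst => Set.disjoint_left.mpr fun p hs ht =>
      hst (hdisj _ (hr s p hs) (hr t p ht))
  haveI : Surjective (Sigma.desc h) := ⟨fun p => by
    obtain ⟨t, ht⟩ := hcov (a p)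
    let P : V.Opens := a ⁻¹ᵁ (f t).opensRange
    have hl1 : Set.range (P.ι ≫ a) ⊆ Set.range (f t) := by rintro _ ⟨⟨q, hq⟩, rfl⟩; exact hq
    let l := IsOpenImmersion.lift (f t) (P.ι ≫ a) hl1
    have hl : l ≫ f t = P.ι ≫ a := IsOpenImmersion.lift_fac _ _ _
    have hPi : (P.ι ≫ φ) ≫ i = l ≫ (O t).ι := by
      rw [← hf, Category.assoc, ← hpb.w, ← Category.assoc l, hl, Category.assoc]
    have hl2 : Set.range (P.ι ≫ φ) ⊆ Set.range (W t).ι := by
      rintro _ ⟨q, rfl⟩
      rw [Scheme.Opens.range_ι]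
      show i ((P.ι ≫ φ) q) ∈ O t
      rw [← Scheme.Hom.comp_apply, hPi, Scheme.Hom.comp_apply]
      exact (l q).2
    let m := IsOpenImmersion.lift (W t).ι (P.ι ≫ φ) hl2
    have hm : m ≫ (W t).ι = P.ι ≫ φ := IsOpenImmersion.lift_fac _ _ _
    have hmh : m ≫ h t = P.ι := by
      refine hpb.hom_ext ?_ ?_
      · rw [Category.assoc, hha, ← hl, ← Category.assoc]
        congr 1
        rw [← cancel_mono (O t).ι, Category.assoc, morphismRestrict_ι, ← Category.assoc, hm, hPi]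
      · rw [Category.assoc, hh, hm]
    refine ⟨Sigma.ι (fun t => (W t : Scheme.{u})) t (m ⟨p, ht⟩), ?_⟩
    rw [← Scheme.Hom.comp_apply, Sigma.ι_desc, ← Scheme.Hom.comp_apply, hmh]
    rfl⟩
  haveI : IsIso (Sigma.desc h) := by
    rw [isIso_iff_isOpenImmersion_and_surjective]
    exact ⟨inferInstance, inferInstance⟩
  refine ⟨ι, inferInstance, W, asIso (Sigma.desc h), fun t => ?_⟩
  rw [asIso_hom, Sigma.ι_desc_assoc, hh]

/-- A finite étale covering of a closed subscheme has a section. -/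
theorem exists_section_closed (hX : Base X) (i : Z ⟶ X) [IsClosedImmersion i] (φ : V ⟶ Z)
    [AlgebraicGeometry.Etale φ] [IsFinite φ] [Surjective φ] : ∃ s : Z ⟶ V, s ≫ φ = 𝟙 Z := by
  classical
  haveI : IsAffine Z := isAffine_of_isAffineHom i
  haveI : IsAffine V := isAffine_of_isAffineHom φ
  obtain ⟨ι, _, W, e, he⟩ := exists_coprod_iso_closed hX i φ
  let σ : ∀ k, (W k : Scheme.{u}) ⟶ V := fun k => Sigma.ι (fun k => (W k : Scheme.{u})) k ≫ e.hom
  have hσ : ∀ k, σ k ≫ φ = (W k).ι := fun k => by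
    show (_ ≫ _) ≫ φ = _
    rw [Category.assoc, he]
  haveI : ∀ k, IsOpenImmersion (σ k) := fun k => inferInstanceAs (IsOpenImmersion (_ ≫ _))
  have hWclosed : ∀ k, IsClosed (W k : Set Z) := fun k => by
    have himg : (W k : Set Z) = φ '' Set.range (σ k) := by
      rw [← Scheme.Opens.range_ι (W k), ← hσ, Scheme.Hom.comp_base, TopCat.coe_comp, Set.range_comp]
    rw [himg]
    refine φ.isClosedMap _ ?_
    rw [← isOpen_compl_iff]
    have : (Set.range (σ k))ᶜ = ⋃ j : {j // j ≠ k}, Set.range (σ j.1) := by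
      ext x
      obtain ⟨j, y, hy⟩ := (sigmaOpenCover fun k => (W k : Scheme.{u})).exists_eq (e.inv x)
      have hx : σ j y = x := by
        show (_ ≫ e.hom) y = x
        rw [Scheme.Hom.comp_apply]
        erw [hy]
        rw [← Scheme.Hom.comp_apply, e.inv_hom_id]; rfl
      have hd : ∀ {s t : ι} (p : W s) (q : W t), σ s p = σ t q → s = t := fun {s t} p q h => by
        by_contra hst
        exact (disjoint_iff.mp
          (disjoint_opensRange_sigmaι (fun k => (W k : Scheme.{u})) s t hst)).le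
          (⟨⟨p, rfl⟩, ⟨q, (e.hom.isOpenEmbedding.injective h).symm⟩⟩ :
            Sigma.ι (fun k => (W k : Scheme.{u})) s p ∈
              (Sigma.ι (fun k => (W k : Scheme.{u})) s).opensRange ⊓
                (Sigma.ι (fun k => (W k : Scheme.{u})) t).opensRange)
      simp only [Set.mem_compl_iff, Set.mem_iUnion]
      constructor
      · intro h
        exact ⟨⟨j, fun hjk => h (hjk ▸ ⟨y, hx⟩)⟩, y, hx⟩
      · rintro ⟨⟨j', hj'⟩, q, hq⟩ ⟨p, hp⟩
        exact hj' (hd q p (hq.trans hp.symm))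
    rw [this]
    exact isOpen_iUnion fun j => (σ j.1).isOpenEmbedding.isOpen_range
  haveI := Fintype.ofFinite ι
  let o := Fintype.equivFin ι
  let D : ι → Z.Opens := fun k =>
    ⟨(W k : Set Z) ∩ ⋂ j : {j // o j < o k}, (W j.1 : Set Z)ᶜ,
      (W k).2.inter (isOpen_iInter_of_finite fun j => (hWclosed j.1).isOpen_compl)⟩
  have hDW : ∀ k, D k ≤ W k := fun k x hx => hx.1
  have hDcov : ∀ z : Z, ∃ k, z ∈ D k := fun z => by
    have hne : (Finset.univ.filter fun k => z ∈ W k).Nonempty := by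
      obtain ⟨v, hv⟩ := φ.surjective z
      obtain ⟨j, y, hy⟩ := (sigmaOpenCover fun k => (W k : Scheme.{u})).exists_eq (e.inv v)
      refine ⟨j, Finset.mem_filter.mpr ⟨Finset.mem_univ _, ?_⟩⟩
      have hvy : σ j y = v := by
        show (_ ≫ e.hom) y = v
        rw [Scheme.Hom.comp_apply]
        erw [hy]
        rw [← Scheme.Hom.comp_apply, e.inv_hom_id]; rfl
      rw [← hv, ← hvy, ← Scheme.Hom.comp_apply, hσ]
      exact y.2
    obtain ⟨k, hk, hmin⟩ := Finset.exists_min_image _ (fun k => o k) hne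
    refine ⟨k, (Finset.mem_filter.mp hk).2, Set.mem_iInter.mpr fun j hj => ?_⟩
    exact absurd (hmin j.1 (Finset.mem_filter.mpr ⟨Finset.mem_univ _, hj⟩)) (not_le.mpr j.2)
  haveI : IsOpenImmersion (Sigma.desc fun k => (D k).ι) := by
    refine isOpenImmersion_sigmaDesc _ _ fun j k hjk => ?_
    show Disjoint (Set.range (D j).ι) (Set.range (D k).ι)
    rw [Scheme.Opens.range_ι, Scheme.Opens.range_ι, Set.disjoint_left]
    intro z hj hk
    rcases lt_or_gt_of_ne (o.injective.ne hjk) with h | h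
    · exact Set.mem_iInter.mp hk.2 ⟨j, h⟩ hj.1
    · exact Set.mem_iInter.mp hj.2 ⟨k, h⟩ hk.1
  haveI : IsIso (Sigma.desc fun k => (D k).ι) := by
    rw [isIso_iff_isOpenImmersion_and_surjective]
    refine ⟨inferInstance, ⟨fun z => ?_⟩⟩
    obtain ⟨k, hk⟩ := hDcov z
    exact ⟨Sigma.ι (fun k => (D k : Scheme.{u})) k ⟨z, hk⟩, by
      rw [← Scheme.Hom.comp_apply, Sigma.ι_desc]; rfl⟩
  refine ⟨inv (Sigma.desc fun k => (D k).ι) ≫ Sigma.desc fun k => Z.homOfLE (hDW k) ≫ σ k, ?_⟩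
  rw [Category.assoc, IsIso.inv_comp_eq, Category.comp_id]
  refine Sigma.hom_ext _ _ fun k => ?_
  rw [Sigma.ι_desc_assoc, Category.assoc, hσ, Scheme.homOfLE_ι, Sigma.ι_desc]

end Groth.Agent.NormSep24
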