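import Groth.Agent.Lib.EtSite.Sheaf
import Groth.Agent.Lib.EtStalk.HpullComp
import Groth.Agent.Lib.EtStalk.Flasque
import Groth.Agent.Lib.RDerLES.Horseshoe
import Groth.Prelude.Def_EtCore

/-!
# Flasque étale sheaves when étale morphisms are local isomorphisms
-/

universe u

set_option maxHeartbeats 400000

open CategoryTheory CategoryTheory.Limits AlgebraicGeometry Opposite

namespace Groth.Agent.NormSep24

open Groth.Agent.EtSite

variable {X : Scheme.{u}}

/-- Etale morphisms to `X` are local isomorphisms. -/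
def ZL (X : Scheme.{u}) : Prop :=
  ∀ (U : X.Etale) (u : U.left), ∃ W : U.left.Opens, u ∈ W ∧ IsOpenImmersion (W.ι ≫ U.hom)

/-- An object covered by disjoint opens of the base. -/
def Sheeted (U : X.Etale) : Prop :=
  ∃ (ι : Type u) (O : ι → U.left.Opens), (∀ x, ∃ t, x ∈ O t) ∧
    (∀ s t x, x ∈ O s → x ∈ O t → s = t) ∧ ∀ t, IsOpenImmersion ((O t).ι ≫ U.hom)

/-- Sections over opens of the base extend. -/
def Flasque (F : EtCoh.Ab X) : Prop :=
  ∀ U : X.Etale, IsOpenImmersion U.hom →
    ∀ W : U.left.Opens, Function.Surjective (F.obj.map (subHom U W).op)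

section Basic

variable {U : X.Etale}

theorem mono_subHom (W : U.left.Opens) : Mono (subHom U W) :=
  ⟨fun a b h => MorphismProperty.Over.Hom.ext ((cancel_mono W.ι).1 (congrArg (fun t => t.left) h))⟩

/-- Lifting into an open subscheme. -/
noncomputable def liftOpens {A B : Scheme.{u}} (f : A ⟶ B) (W : B.Opens) (hr : Set.range f ⊆ W) :
    A ⟶ (W : Scheme.{u}) :=
  IsOpenImmersion.lift W.ι f (hr.trans (Scheme.Opens.range_ι W).ge)

theorem liftOpens_fac {A B : Scheme.{u}} (f : A ⟶ B) (W : B.Opens) (hr : Set.range f ⊆ W) :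
    liftOpens f W hr ≫ W.ι = f :=
  IsOpenImmersion.lift_fac _ _ _

/-- Factorisation through an open subscheme. -/
noncomputable def toSub {Z : X.Etale} (h : Z ⟶ U) (W : U.left.Opens)
    (hr : Set.range h.left ⊆ W) : Z ⟶ sub U W :=
  MorphismProperty.Over.homMk (liftOpens h.left W hr)
    ((Category.assoc _ _ _).symm.trans
      ((congrArg (· ≫ U.hom) (liftOpens_fac h.left W hr)).trans (MorphismProperty.Over.w h)))

@[simp]
theorem toSub_fac {Z : X.Etale} (h : Z ⟶ U) (W : U.left.Opens) (hr : Set.range h.left ⊆ W) :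
    toSub h W hr ≫ subHom U W = h :=
  MorphismProperty.Over.Hom.ext (liftOpens_fac h.left W hr)

theorem range_subHom (W : U.left.Opens) : Set.range (subHom U W).left = (W : Set U.left) :=
  Scheme.Opens.range_ι W

/-- Inclusion between open subschemes. -/
noncomputable def subLE {W W' : U.left.Opens} (h : W ≤ W') : sub U W ⟶ sub U W' :=
  toSub (subHom U W) W' ((range_subHom W).le.trans h)

@[simp]
theorem subLE_fac {W W' : U.left.Opens} (h : W ≤ W') : subLE h ≫ subHom U W' = subHom U W :=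
  toSub_fac _ _ _

theorem range_comp_subHom {Z : X.Etale} (W : U.left.Opens) (a : Z ⟶ sub U W) :
    Set.range (a ≫ subHom U W).left ⊆ W := by
  rintro _ ⟨z, rfl⟩
  exact (a.left z).2

variable (F : EtCoh.Ab X)

theorem res_res {A B C : X.Etale} (a : A ⟶ B) (b : B ⟶ C) (t : F.obj.obj (op C)) :
    F.obj.map a.op (F.obj.map b.op t) = F.obj.map (a ≫ b).op t := by
  rw [op_comp, F.obj.map_comp]
  rfl

/-- Gluing of sections. -/
theorem glue {ι : Type*} (V : ι → X.Etale) (f : ∀ i, V i ⟶ U)
    (hcov : ∀ x : U.left, ∃ i, x ∈ Set.range (f i).left) (s : ∀ i, F.obj.obj (op (V i)))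
    (hs : ∀ i j (Z : X.Etale) (a : Z ⟶ V i) (b : Z ⟶ V j), a ≫ f i = b ≫ f j →
      F.obj.map a.op (s i) = F.obj.map b.op (s j)) :
    ∃! t : F.obj.obj (op U), ∀ i, F.obj.map (f i).op t = s i := by
  have hR : Sieve.ofArrows V f ∈ X.smallEtaleTopology U := by
    rw [mem_et_iff]
    intro x
    obtain ⟨i, v, hv⟩ := hcov x
    exact ⟨V i, f i, v, Sieve.ofArrows_mk _ _ i, hv⟩
  have hF : Presieve.IsSheaf X.smallEtaleTopology (F.obj ⋙ forget AddCommGrpCat.{u + 1}) :=
    (isSheaf_iff_isSheaf_of_type _ _).1 ((sheafCompose _ (forget AddCommGrpCat.{u + 1})).obj F).property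
  have hfor := (Presieve.isSheafFor_iff_generate (Presieve.ofArrows V f)).2 (hF _ hR)
  rw [Presieve.isSheafFor_arrows_iff] at hfor
  exact hfor s hs

theorem sect_ext {ι : Type*} (V : ι → X.Etale) (f : ∀ i, V i ⟶ U)
    (hcov : ∀ x : U.left, ∃ i, x ∈ Set.range (f i).left) {t t' : F.obj.obj (op U)}
    (h : ∀ i, F.obj.map (f i).op t = F.obj.map (f i).op t') : t = t' :=
  (glue F V f hcov (fun i => F.obj.map (f i).op t') (fun i j Z a b e => by
    rw [res_res, res_res, e])).unique h (fun _ => rfl)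

theorem eq_of_isEmpty (h : IsEmpty U.left) (t t' : F.obj.obj (op U)) : t = t' :=
  sect_ext F (ι := PEmpty.{1}) (fun i => i.elim) (fun i => i.elim) (fun x => h.elim x)
    fun i => i.elim

theorem flasque_of_injective [Injective F] : Flasque F := fun U _ W =>
  haveI := mono_subHom (U := U) W
  EtStalk.surjective_map_of_injective F (subHom U W)

end Basic

section ShortExact

variable {S : ShortComplex (EtCoh.Ab X)} (hS : S.ShortExact) (hA : Flasque S.X₁) (hX : ZL X)

theorem g_res {A B : X.Etale} (a : A ⟶ B) (t : S.X₂.obj.obj (op B)) :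
    S.g.hom.app (op A) (S.X₂.obj.map a.op t) = S.X₃.obj.map a.op (S.g.hom.app (op B) t) :=
  ConcreteCategory.congr_hom (S.g.hom.naturality a.op) t

theorem f_res {A B : X.Etale} (a : A ⟶ B) (t : S.X₁.obj.obj (op B)) :
    S.f.hom.app (op A) (S.X₁.obj.map a.op t) = S.X₂.obj.map a.op (S.f.hom.app (op B) t) :=
  ConcreteCategory.congr_hom (S.f.hom.naturality a.op) t

theorem g_f {A : X.Etale} (t : S.X₁.obj.obj (op A)) :
    S.g.hom.app (op A) (S.f.hom.app (op A) t) = 0 :=
  ConcreteCategory.congr_hom (congrArg (fun φ => φ.hom.app (op A)) S.zero) t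

include hS in
theorem exists_f {A : X.Etale} (t : S.X₂.obj.obj (op A)) (ht : S.g.hom.app (op A) t = 0) :
    ∃ a, S.f.hom.app (op A) a = t := by
  haveI := hS.mono_f
  have h := hS.exact.map_of_mono_of_preservesKernel
    (sheafToPresheaf _ _ ⋙ (evaluation X.Etaleᵒᵖ AddCommGrpCat.{u + 1}).obj (op A)) hS.mono_f
    inferInstance
  exact (ShortComplex.ab_exact_iff _).1 h t ht

variable {U : X.Etale} (s : S.X₃.obj.obj (op U))

/-- Partial lifts of a section. -/
abbrev PLift' : Type (u + 1) :=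
  {p : Σ O : U.left.Opens, S.X₂.obj.obj (op (sub U O)) //
    S.g.hom.app _ p.2 = S.X₃.obj.map (subHom U p.1).op s}

/-- Extension of partial lifts. -/
def Ext' (p q : PLift' s) : Prop :=
  ∃ h : p.1.1 ≤ q.1.1, S.X₂.obj.map (subLE h).op q.1.2 = p.1.2

include hS hA hX in
theorem exists_lift_openImm (hU : IsOpenImmersion U.hom) : ∃ t, S.g.hom.app (op U) t = s := by
  haveI := hU
  have hmono : ∀ (O : U.left.Opens) {Z : X.Etale} {a b : Z ⟶ sub U O},
      a ≫ subHom U O = b ≫ subHom U O → a = b := fun O _ _ _ h =>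
    haveI := mono_subHom (U := U) O
    (cancel_mono (subHom U O)).1 h
  obtain ⟨m, hm⟩ : ∃ m : PLift' s, ∀ a, Ext' s m a → Ext' s a m := by
    refine exists_maximal_of_chains_bounded (fun c hc => ?_) ?_
    · let O : U.left.Opens := ⨆ p : c, p.1.1.1
      have hle : ∀ p : c, p.1.1.1 ≤ O := fun p => le_iSup (fun p : c => p.1.1.1) p
      have hcov : ∀ x : (sub U O).left, ∃ p : c, x ∈ Set.range (subLE (hle p)).left := fun x => by
        obtain ⟨p, hp⟩ := TopologicalSpace.Opens.mem_iSup.1 x.2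
        refine ⟨p, ⟨x.1, hp⟩, Subtype.ext ?_⟩
        exact congr(($(subLE_fac (hle p))).left ⟨x.1, hp⟩)
      obtain ⟨t, ht, -⟩ := glue S.X₂ (U := sub U O) (fun p : c => sub U p.1.1.1)
        (fun p => subLE (hle p)) hcov (fun p => p.1.1.2) (fun p q Z a b e => by
          have e' : a ≫ subHom U p.1.1.1 = b ≫ subHom U q.1.1.1 := by
            rw [← subLE_fac (hle p), ← subLE_fac (hle q), ← Category.assoc, e, Category.assoc]
          rcases eq_or_ne p.1 q.1 with h | h
          · obtain ⟨p, hp⟩ := p; obtain ⟨q, hq⟩ := q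
            obtain rfl : p = q := h
            rw [hmono _ e']
          rcases hc p.2 q.2 h with ⟨hpq, hr⟩ | ⟨hqp, hr⟩
          · have : a ≫ subLE hpq = b := hmono _ (by rw [Category.assoc, subLE_fac, e'])
            show S.X₂.obj.map a.op p.1.1.2 = _
            rw [← hr, res_res, this]
          · have : b ≫ subLE hqp = a := hmono _ (by rw [Category.assoc, subLE_fac, e'])
            show _ = S.X₂.obj.map b.op q.1.1.2
            rw [← hr, res_res, this])
      refine ⟨⟨⟨O, t⟩, ?_⟩, fun p hp => ⟨hle ⟨p, hp⟩, ht ⟨p, hp⟩⟩⟩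
      refine sect_ext S.X₃ (U := sub U O) (fun p : c => sub U p.1.1.1)
        (fun p => subLE (hle p)) hcov fun p => ?_
      rw [← g_res, ht p, res_res, subLE_fac]
      exact p.1.2
    · rintro p q r ⟨h, hr⟩ ⟨h', hr'⟩
      refine ⟨h.trans h', ?_⟩
      have : subLE h ≫ subLE h' = subLE (h.trans h') :=
        hmono _ (by rw [Category.assoc, subLE_fac, subLE_fac, subLE_fac])
      rw [← hr, ← hr', res_res, this]
  obtain ⟨⟨O, t⟩, ht⟩ := m
  have htop : O = ⊤ := by
    refine eq_top_iff.2 fun x _ => ?_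
    by_contra hx
    haveI : Sheaf.IsLocallySurjective S.g :=
      by rw [Sheaf.isLocallySurjective_iff_epi']; exact hS.epi_g
    obtain ⟨Y, f, y, ⟨b, hb⟩, hy⟩ :=
      (mem_et_iff U _).1 (Presheaf.imageSieve_mem X.smallEtaleTopology S.g.hom s) x
    obtain ⟨W, hyW, hW⟩ := hX Y y
    haveI : IsOpenImmersion ((W.ι ≫ f.left) ≫ U.hom) := by
      rw [Category.assoc, MorphismProperty.Over.w f]; exact hW
    haveI : IsOpenImmersion (W.ι ≫ f.left) := IsOpenImmersion.of_comp (W.ι ≫ f.left) U.hom
    let N : U.left.Opens := (W.ι ≫ f.left).opensRange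
    have hxN : x ∈ N := ⟨⟨y, hyW⟩, hy⟩
    let r : sub U N ⟶ Y := MorphismProperty.Over.homMk ((W.ι ≫ f.left).isoOpensRange.inv ≫ W.ι) (by
      show (_ ≫ W.ι) ≫ Y.hom = N.ι ≫ U.hom
      have h0 : (W.ι ≫ f.left).isoOpensRange.inv ≫ W.ι ≫ f.left = N.ι :=
        Scheme.Hom.isoOpensRange_inv_comp _
      exact ((Category.assoc _ _ _).trans (congrArg ((W.ι ≫ f.left).isoOpensRange.inv ≫ ·)
        ((congrArg (W.ι ≫ ·) (MorphismProperty.Over.w f).symm).trans
          (Category.assoc _ _ _).symm))).trans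
        ((Category.assoc _ _ _).symm.trans (congrArg (· ≫ U.hom) h0)))
    have hrf : r ≫ f = subHom U N := MorphismProperty.Over.Hom.ext (by
      show ((W.ι ≫ f.left).isoOpensRange.inv ≫ W.ι) ≫ f.left = N.ι
      simp [N])
    obtain ⟨tN, htN⟩ : ∃ tN, S.g.hom.app (op (sub U N)) tN = S.X₃.obj.map (subHom U N).op s := by
      refine ⟨S.X₂.obj.map r.op b, ?_⟩
      rw [g_res, ← hrf, ← res_res]
      exact congrArg _ hb
    obtain ⟨d, hd⟩ := exists_f hS (A := sub U (O ⊓ N))
      (S.X₂.obj.map (subLE inf_le_left).op t - S.X₂.obj.map (subLE inf_le_right).op tN) (by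
        rw [map_sub, g_res, g_res, ht, htN, res_res, res_res, subLE_fac, subLE_fac, sub_self])
    obtain ⟨e, he⟩ := hA U hU (O ⊓ N) d
    let tN' := tN + S.f.hom.app _ (S.X₁.obj.map (subHom U N).op e)
    have hag : S.X₂.obj.map (subLE (inf_le_left : O ⊓ N ≤ O)).op t =
        S.X₂.obj.map (subLE (inf_le_right : O ⊓ N ≤ N)).op tN' := by
      show _ = S.X₂.obj.map _ (tN + _)
      rw [map_add, ← f_res, res_res, subLE_fac, he, hd, add_sub_cancel]
    have hO : O ≤ O ⊔ N := le_sup_left
    have hN : N ≤ O ⊔ N := le_sup_right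
    let V : Bool → X.Etale := fun i => bif i then sub U O else sub U N
    let fV : ∀ i, V i ⟶ sub U (O ⊔ N) := fun i => match i with
      | true => subLE hO
      | false => subLE hN
    let sV : ∀ i, S.X₂.obj.obj (op (V i)) := fun i => match i with
      | true => t
      | false => tN'
    have hcov : ∀ z : (sub U (O ⊔ N)).left, ∃ i, z ∈ Set.range (fV i).left := fun z => by
      rcases z.2 with hz | hz
      · exact ⟨true, ⟨z.1, hz⟩, Subtype.ext congr(($(subLE_fac hO)).left ⟨z.1, hz⟩)⟩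
      · exact ⟨false, ⟨z.1, hz⟩, Subtype.ext congr(($(subLE_fac hN)).left ⟨z.1, hz⟩)⟩
    have key : ∀ (Z : X.Etale) (a : Z ⟶ sub U O) (b : Z ⟶ sub U N),
        a ≫ subLE hO = b ≫ subLE hN → S.X₂.obj.map a.op t = S.X₂.obj.map b.op tN' := by
      intro Z a b e'
      have e'' : a ≫ subHom U O = b ≫ subHom U N := by
        rw [← subLE_fac hO, ← subLE_fac hN, ← Category.assoc, e', Category.assoc]
      have hr : Set.range (a ≫ subHom U O).left ⊆ (O ⊓ N : U.left.Opens) :=
        Set.subset_inter (range_comp_subHom O a) (e'' ▸ range_comp_subHom N b)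
      let l := toSub (a ≫ subHom U O) (O ⊓ N) hr
      have h1 : l ≫ subLE inf_le_left = a := hmono _ (by rw [Category.assoc, subLE_fac, toSub_fac])
      have h2 : l ≫ subLE inf_le_right = b := hmono _ (by
        rw [Category.assoc, subLE_fac, toSub_fac, e''])
      rw [← h1, ← h2, ← res_res, ← res_res, hag]
    obtain ⟨t', ht', -⟩ := glue S.X₂ (U := sub U (O ⊔ N)) V fV hcov sV (fun i j Z a b e' => by
      match i, j with
      | true, true =>
        have : a = b := hmono O (by
          rw [← subLE_fac hO, ← Category.assoc]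
          exact congrArg (· ≫ subHom U (O ⊔ N)) e')
        rw [this]
      | false, false =>
        have : a = b := hmono N (by
          rw [← subLE_fac hN, ← Category.assoc]
          exact congrArg (· ≫ subHom U (O ⊔ N)) e')
        rw [this]
      | true, false => exact key Z a b e'
      | false, true => exact (key Z b a e'.symm).symm)
    have hg : S.g.hom.app _ t' = S.X₃.obj.map (subHom U (O ⊔ N)).op s := by
      refine sect_ext S.X₃ (U := sub U (O ⊔ N)) V fV hcov fun i => ?_
      rw [← g_res, ht' i, res_res]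
      match i with
      | true => exact ht.trans (by rw [subLE_fac])
      | false =>
        show S.g.hom.app _ tN' = _
        rw [map_add, g_f, add_zero, htN, subLE_fac]
    obtain ⟨h, -⟩ := hm ⟨⟨O ⊔ N, t'⟩, hg⟩ ⟨hO, ht' true⟩
    exact hx (h (Or.inr hxN))
  subst htop
  let l : U ⟶ sub U ⊤ := toSub (𝟙 U) ⊤ (Set.subset_univ _)
  refine ⟨S.X₂.obj.map l.op t, ?_⟩
  rw [g_res, ht, res_res, toSub_fac, op_id, S.X₃.obj.map_id]
  rfl

include hS hA hX in
theorem exists_lift_sheeted (hU : Sheeted U) : ∃ t, S.g.hom.app (op U) t = s := by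
  obtain ⟨ι, O, hcov, hdisj, hO⟩ := hU
  have h := fun t => exists_lift_openImm hS hA hX (U := sub U (O t))
    (S.X₃.obj.map (subHom U (O t)).op s) (hO t)
  choose b hb using h
  have hc : ∀ x : U.left, ∃ t, x ∈ Set.range (subHom U (O t)).left := fun x => by
    obtain ⟨t, ht⟩ := hcov x
    exact ⟨t, ⟨x, ht⟩, rfl⟩
  obtain ⟨t, ht, -⟩ := glue S.X₂ (fun t => sub U (O t)) (fun t => subHom U (O t)) hc b
    (fun i j Z a c e => by
      rcases isEmpty_or_nonempty Z.left with hZ | ⟨⟨z⟩⟩
      · exact eq_of_isEmpty S.X₂ hZ _ _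
      have hij : i = j := hdisj i j ((a ≫ subHom U (O i)).left z) (a.left z).2 (e ▸ (c.left z).2)
      subst hij
      have : a = c := by
        haveI := mono_subHom (U := U) (O i)
        exact (cancel_mono (subHom U (O i))).1 e
      rw [this])
  refine ⟨t, sect_ext S.X₃ (fun t => sub U (O t)) (fun t => subHom U (O t)) hc fun i => ?_⟩
  rw [← g_res, ht i]
  exact hb i

include hS hA hX in
theorem flasque_quotient (hB : Flasque S.X₂) : Flasque S.X₃ := by
  intro U hU W c
  haveI := hU
  have hW : IsOpenImmersion (sub U W).hom := inferInstanceAs (IsOpenImmersion (W.ι ≫ U.hom))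
  obtain ⟨b, rfl⟩ := exists_lift_openImm hS hA hX c hW
  obtain ⟨b', rfl⟩ := hB U hU W b
  exact ⟨S.g.hom.app _ b', (g_res _ _).symm⟩

end ShortExact

end Groth.Agent.NormSep24
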