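import Groth.Agent.Lib.NormSep24.Vanish
import Groth.Agent.Lib.NormSep24.Irr
import Mathlib.AlgebraicGeometry.Morphisms.FlatMono
import Mathlib.Topology.Separation.Profinite

/-!
# Affine schemes with closed points and separably closed residue fields
-/

universe u

set_option maxHeartbeats 400000

open CategoryTheory CategoryTheory.Limits AlgebraicGeometry Opposite CategoryTheory.Abelian

namespace Groth.Agent.NormSep24

open Groth.Agent.EtSite

theorem t2Space_primeSpectrum {R : Type u} [CommRing R] [T1Space (PrimeSpectrum R)] :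
    T2Space (PrimeSpectrum R) := by
  refine ⟨fun x y hxy => ?_⟩
  have hmax : ∀ q : PrimeSpectrum R, q.asIdeal.IsMaximal := fun q =>
    (PrimeSpectrum.isClosed_singleton_iff_isMaximal q).mp isClosed_singleton
  obtain ⟨f, hfx, hfy⟩ : ∃ f ∈ x.asIdeal, f ∉ y.asIdeal := by
    by_contra h
    push Not at h
    exact hxy (PrimeSpectrum.ext ((hmax x).eq_of_le (hmax y).ne_top h))
  let M : Submonoid R :=
    { carrier := {a | ∃ s ∉ x.asIdeal, ∃ n : ℕ, a = s * f ^ n}
      mul_mem' := by
        rintro _ _ ⟨s, hs, n, rfl⟩ ⟨t, ht, m, rfl⟩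
        exact ⟨s * t, x.2.mul_notMem hs ht, n + m, by ring⟩
      one_mem' := ⟨1, (Ideal.ne_top_iff_one _).mp x.2.ne_top, 0, by simp⟩ }
  by_cases h0 : (0 : R) ∈ M
  · obtain ⟨s, hs, n, hn⟩ := h0
    refine ⟨PrimeSpectrum.basicOpen s, PrimeSpectrum.basicOpen f, (PrimeSpectrum.basicOpen s).2,
      (PrimeSpectrum.basicOpen f).2, hs, hfy, Set.disjoint_left.mpr fun q hqs hqf => ?_⟩
    rcases q.2.mem_or_mem (show s * f ^ n ∈ q.asIdeal from hn ▸ q.asIdeal.zero_mem) with h | h
    · exact hqs h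
    · exact hqf (q.2.mem_of_pow_mem n h)
  · exfalso
    obtain ⟨q, hq, -, hd⟩ := Ideal.exists_le_prime_disjoint (⊥ : Ideal R) M
      (Set.disjoint_left.mpr fun a ha hM => h0 ((Ideal.mem_bot.mp ha) ▸ hM))
    have hqx : q ≤ x.asIdeal := fun a ha => by
      by_contra hax
      exact Set.disjoint_left.mp hd ha ⟨a, hax, 0, by simp⟩
    have hqe : q = x.asIdeal := (hmax ⟨q, hq⟩).eq_of_le x.2.ne_top hqx
    rw [hqe] at hd
    exact Set.disjoint_left.mp hd hfx ⟨1, (Ideal.ne_top_iff_one _).mp x.2.ne_top, 1, by simp⟩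

theorem t2Space_of_isAffine (V : Scheme.{u}) [IsAffine V] [T1Space V] : T2Space V := by
  haveI : T1Space (PrimeSpectrum Γ(V, ⊤)) := V.isoSpec.hom.homeomorph.t1Space
  haveI := t2Space_primeSpectrum (R := Γ(V, ⊤))
  haveI : T2Space (Spec Γ(V, ⊤)) := t2Space_primeSpectrum (R := Γ(V, ⊤))
  exact V.isoSpec.hom.homeomorph.symm.t2Space

theorem exists_isClopen_subset (V : Scheme.{u}) [IsAffine V] [T1Space V] {x : V} {O : Set V}
    (hO : IsOpen O) (hx : x ∈ O) : ∃ N : Set V, IsClopen N ∧ x ∈ N ∧ N ⊆ O := by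
  haveI := t2Space_of_isAffine V
  haveI : CompactSpace V := inferInstance
  haveI : TotallySeparatedSpace V := inferInstance
  exact compact_exists_isClopen_in_isOpen hO hx

variable {S : Scheme.{u}}

section LocalIso

variable {V : Scheme.{u}} (h : V ⟶ S) [AlgebraicGeometry.Etale h]

include h in
theorem t1Space_source [T1Space S] : T1Space V := by
  refine t1Space_iff_specializes_imp_eq.mpr fun s t hst => ?_
  exact eq_of_specializes_of_fibre h hst ((hst.map h.continuous).eq)

theorem mono_fromSpecResidueField_comp (h2 : ∀ s : S, IsSepClosed (S.residueField s)) (v : V) :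
    Mono (V.fromSpecResidueField v ≫ h) := by
  haveI : IsIso (h.residueFieldMap v) := by
    haveI := h2 (h v)
    letI : Algebra (S.residueField (h v)) (V.residueField v) := (h.residueFieldMap v).hom.toAlgebra
    rw [ConcreteCategory.isIso_iff_bijective]
    exact IsSepClosed.algebraMap_bijective (S.residueField (h v)) (V.residueField v)
  rw [← Scheme.Hom.SpecMap_residueFieldMap_fromSpecResidueField]
  infer_instance

theorem mem_range_diagonal (h2 : ∀ s : S, IsSepClosed (S.residueField s)) (z : ↥(pullback h h))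
    (hz : pullback.fst h h z = pullback.snd h h z) : z ∈ Set.range (pullback.diagonal h) := by
  let ξ := (pullback h h).fromSpecResidueField z
  have hξ : ∀ p, ξ p = z := fun p => Scheme.fromSpecResidueField_apply z p
  let a := ξ ≫ pullback.fst h h
  let b := ξ ≫ pullback.snd h h
  have hpt : ∀ p, a p = pullback.fst h h z ∧ b p = pullback.fst h h z := fun p => by
    simp only [a, b, Scheme.Hom.comp_apply, hξ, hz, and_self]
  haveI := mono_fromSpecResidueField_comp h h2 (pullback.fst h h z)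
  have key : ∀ (c : Spec ((pullback h h).residueField z) ⟶ V),
      c (IsLocalRing.closedPoint _) = pullback.fst h h z →
        ∃ l, l ≫ V.fromSpecResidueField (pullback.fst h h z) = c := by
    intro c hc
    rw [← hc]
    exact ⟨_, Scheme.descResidueField_stalkClosedPointTo_fromSpecResidueField _ V c⟩
  obtain ⟨la, hla⟩ := key a (hpt _).1
  obtain ⟨lb, hlb⟩ := key b (hpt _).2
  have hab : a = b := by
    rw [← hla, ← hlb]
    congr 1
    rw [← cancel_mono (V.fromSpecResidueField (pullback.fst h h z) ≫ h), ← Category.assoc,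
      ← Category.assoc, hla, hlb, Category.assoc, Category.assoc, pullback.condition]
  have : ξ = a ≫ pullback.diagonal h := by
    apply pullback.hom_ext
    · simp [a]
    · simpa [b] using hab.symm
  exact ⟨a (IsLocalRing.closedPoint _), by
    rw [← Scheme.Hom.comp_apply, ← this, hξ]⟩

theorem exists_isOpenImmersion_affine [IsAffine V] [IsAffine S] [T1Space S]
    (h2 : ∀ s : S, IsSepClosed (S.residueField s)) (v : V) :
    ∃ W : V.Opens, v ∈ W ∧ IsOpenImmersion (W.ι ≫ h) := by
  haveI : T1Space V := t1Space_source h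
  let C : Set ↥(pullback h h) := (Set.range (pullback.diagonal h))ᶜ
  have hC : IsClosed C := (pullback.diagonal h).isOpenEmbedding.isOpen_range.isClosed_compl
  let ι := {N : Set V // IsClopen N ∧ v ∈ N}
  let K : ι → Set ↥(pullback h h) := fun N => pullback.fst h h ⁻¹' N.1 ∩ pullback.snd h h ⁻¹' N.1
  have hK : ∀ N, IsClosed (K N) := fun N =>
    (N.2.1.isClosed.preimage (pullback.fst h h).continuous).inter
      (N.2.1.isClosed.preimage (pullback.snd h h).continuous)
  have hne : (C ∩ ⋂ N, K N) = ∅ := by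
    ext z
    simp only [Set.mem_inter_iff, Set.mem_iInter, Set.mem_empty_iff_false, iff_false, not_and]
    intro hzC hzK
    have hsep : ∀ y : V, (∀ N : ι, y ∈ N.1) → y = v := fun y hy => by
      by_contra hne
      obtain ⟨N, hN, hvN, hsub⟩ := exists_isClopen_subset V
        (isOpen_compl_singleton (x := y)) (show v ∈ ({y} : Set V)ᶜ from fun e => hne e.symm)
      exact hsub (hy ⟨N, hN, hvN⟩) rfl
    exact hzC (mem_range_diagonal h h2 z ((hsep _ fun N => (hzK N).1).trans
      (hsep _ fun N => (hzK N).2).symm))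
  obtain ⟨t, ht⟩ := hC.isCompact.elim_finite_subfamily_closed K hK hne
  let W : V.Opens := ⟨⋂ N ∈ t, N.1, isOpen_biInter_finset fun N _ => N.2.1.isOpen⟩
  refine ⟨W, Set.mem_iInter₂.mpr fun N _ => N.2.2, ?_⟩
  haveI : Mono (W.ι ≫ h) := by
    refine ⟨fun {Z} a b hab => ?_⟩
    have hab' : (a ≫ W.ι) ≫ h = (b ≫ W.ι) ≫ h := by simpa using hab
    let p := pullback.lift (a ≫ W.ι) (b ≫ W.ι) hab'
    have hr : Set.range p ⊆ Set.range (pullback.diagonal h) := by
      rintro _ ⟨z, rfl⟩
      by_contra hz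
      refine (Set.ext_iff.mp ht (p z)).mp ⟨hz, Set.mem_iInter₂.mpr fun N hN => ⟨?_, ?_⟩⟩
      · show pullback.fst h h (p z) ∈ N.1
        rw [← Scheme.Hom.comp_apply, pullback.lift_fst]
        exact Set.mem_iInter₂.mp (a z).2 N hN
      · show pullback.snd h h (p z) ∈ N.1
        rw [← Scheme.Hom.comp_apply, pullback.lift_snd]
        exact Set.mem_iInter₂.mp (b z).2 N hN
    have e := IsOpenImmersion.lift_fac (pullback.diagonal h) p hr
    have e1 := congrArg (· ≫ pullback.fst h h) e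
    have e2 := congrArg (· ≫ pullback.snd h h) e
    simp only [p, Category.assoc, pullback.diagonal_fst, pullback.diagonal_snd,
      Category.comp_id, pullback.lift_fst, pullback.lift_snd] at e1 e2
    exact (cancel_mono W.ι).mp (e1.symm.trans e2)
  exact IsOpenImmersion.of_flat_of_mono _

end LocalIso

variable [IsAffine S] [T1Space S] (h2 : ∀ s : S, IsSepClosed (S.residueField s))

include h2 in
theorem zl_of_t1 : ZL S := by
  intro U u
  let g : U.left ⟶ S := U.hom
  haveI : AlgebraicGeometry.Etale g := U.prop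
  obtain ⟨V, hV, huV, -⟩ := exists_isAffineOpen_mem_and_subset (U := (⊤ : U.left.Opens)) (x := u) trivial
  haveI : IsAffine V := hV
  obtain ⟨W, hW, hWo⟩ := exists_isOpenImmersion_affine (V.ι ≫ g) h2 ⟨u, huV⟩
  refine ⟨V.ι ''ᵁ W, ⟨⟨u, huV⟩, hW, rfl⟩, ?_⟩
  have e : (V.ι ''ᵁ W).ι = (V.ι.isoImage W).inv ≫ W.ι ≫ V.ι :=
    (Scheme.Hom.isoImage_inv_ι V.ι W).symm
  rw [e, Category.assoc, Category.assoc]
  exact (inferInstance : IsOpenImmersion ((V.ι.isoImage W).inv ≫ W.ι ≫ V.ι ≫ g))

include h2 in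
/-- Global sections of quotients lift. -/
theorem exists_lift_top {T : ShortComplex (EtCoh.Ab S)} (hT : T.ShortExact)
    (s : T.X₃.obj.obj (op (EtCoh.top S))) : ∃ t, T.g.hom.app (op (EtCoh.top S)) t = s := by
  classical
  let U := EtCoh.top S
  haveI : T1Space U.left := ‹T1Space S›
  haveI : IsAffine U.left := ‹IsAffine S›
  haveI : Sheaf.IsLocallySurjective T.g := by
    rw [Sheaf.isLocallySurjective_iff_epi']; exact hT.epi_g
  have hloc : ∀ x : U.left, ∃ (O : U.left.Opens) (b : T.X₂.obj.obj (op (sub U O))),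
      x ∈ O ∧ IsClopen (O : Set U.left) ∧ T.g.hom.app _ b = T.X₃.obj.map (subHom U O).op s := by
    intro x
    obtain ⟨Y, f, y, ⟨b, hb⟩, hy⟩ :=
      (mem_et_iff U _).1 (Presheaf.imageSieve_mem S.smallEtaleTopology T.g.hom s) x
    obtain ⟨W, hyW, hW⟩ := zl_of_t1 h2 Y y
    haveI := hW
    haveI : IsOpenImmersion ((W.ι ≫ f.left) ≫ U.hom) := by
      rw [Category.assoc, MorphismProperty.Over.w f]; exact hW
    haveI : IsOpenImmersion U.hom := inferInstanceAs (IsOpenImmersion (𝟙 S))
    haveI : IsOpenImmersion (W.ι ≫ f.left) := IsOpenImmersion.of_comp (W.ι ≫ f.left) U.hom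
    let N : U.left.Opens := (W.ι ≫ f.left).opensRange
    obtain ⟨O, hO, hxO, hON⟩ := exists_isClopen_subset U.left N.2
      (show x ∈ (N : Set U.left) from ⟨⟨y, hyW⟩, hy⟩)
    let O' : U.left.Opens := ⟨O, hO.isOpen⟩
    have h0 : (W.ι ≫ f.left).isoOpensRange.inv ≫ W.ι ≫ f.left = N.ι :=
      Scheme.Hom.isoOpensRange_inv_comp _
    let r : sub U N ⟶ Y := MorphismProperty.Over.homMk ((W.ι ≫ f.left).isoOpensRange.inv ≫ W.ι)
      (((Category.assoc _ _ _).trans (congrArg ((W.ι ≫ f.left).isoOpensRange.inv ≫ ·)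
        ((congrArg (W.ι ≫ ·) (MorphismProperty.Over.w f).symm).trans
          (Category.assoc _ _ _).symm))).trans
        ((Category.assoc _ _ _).symm.trans (congrArg (· ≫ U.hom) h0)))
    have hrf : r ≫ f = subHom U N := MorphismProperty.Over.Hom.ext
      ((Category.assoc _ _ _).trans h0)
    have hle : O' ≤ N := hON
    refine ⟨O', T.X₂.obj.map (subLE hle ≫ r).op b, hxO, hO, ?_⟩
    refine (g_res _ _).trans ((congrArg _ hb).trans ?_)
    rw [res_res, Category.assoc, hrf, subLE_fac]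
  choose O b hxO hO hb using hloc
  obtain ⟨F, hF⟩ := isCompact_univ.elim_finite_subcover (fun x => (O x : Set U.left))
    (fun x => (O x).2) (fun x _ => Set.mem_iUnion.mpr ⟨x, hxO x⟩)
  let o := Fintype.equivFin F
  let D : F → U.left.Opens := fun k =>
    ⟨(O k.1 : Set U.left) ∩ ⋂ j : {j : F // o j < o k}, (O j.1.1 : Set U.left)ᶜ,
      (O k.1).2.inter (isOpen_iInter_of_finite fun j => (hO j.1.1).isClosed.isOpen_compl)⟩
  have hle : ∀ k : F, D k ≤ O k.1 := fun k x hx => hx.1
  have hdisj : ∀ j k : F, ∀ x, x ∈ D j → x ∈ D k → j = k := by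
    intro j k x hj hk
    by_contra h
    rcases lt_or_gt_of_ne (o.injective.ne h) with h | h
    · exact Set.mem_iInter.mp hk.2 ⟨j, h⟩ hj.1
    · exact Set.mem_iInter.mp hj.2 ⟨k, h⟩ hk.1
  have hc : ∀ x : U.left, ∃ k : F, x ∈ Set.range (subHom U (D k)).left := fun x => by
    have hne : (Finset.univ.filter fun k : F => x ∈ O k.1).Nonempty := by
      obtain ⟨i, hi, hx⟩ := Set.mem_iUnion₂.mp (hF (Set.mem_univ x))
      exact ⟨⟨i, hi⟩, Finset.mem_filter.mpr ⟨Finset.mem_univ _, hx⟩⟩
    obtain ⟨k, hk, hmin⟩ := Finset.exists_min_image _ (fun k => o k) hne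
    rw [Finset.mem_filter] at hk
    refine ⟨k, ⟨x, hk.2, Set.mem_iInter.mpr fun j hj => ?_⟩, rfl⟩
    exact absurd (hmin j.1 (Finset.mem_filter.mpr ⟨Finset.mem_univ _, hj⟩)) (not_le.mpr j.2)
  obtain ⟨t, ht, -⟩ := glue T.X₂ (fun k => sub U (D k)) (fun k => subHom U (D k)) hc
    (fun k => T.X₂.obj.map (subLE (hle k)).op (b k.1)) (fun i j Z a c e => by
      rcases isEmpty_or_nonempty Z.left with hZ | ⟨⟨z⟩⟩
      · exact eq_of_isEmpty T.X₂ hZ _ _
      have hij : i = j := hdisj i j ((a ≫ subHom U (D i)).left z) (a.left z).2 (e ▸ (c.left z).2)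
      subst hij
      haveI := mono_subHom (U := U) (D i)
      rw [(cancel_mono (subHom U (D i))).1 e])
  refine ⟨t, sect_ext T.X₃ (fun k => sub U (D k)) (fun k => subHom U (D k)) hc fun k => ?_⟩
  rw [← g_res, ht k, g_res, hb, res_res, subLE_fac]

include h2 in
theorem subsingleton_H_of_t1 : ∀ (q : ℕ) (F : EtCoh.Ab S), Subsingleton (EtCoh.H S F (q + 1))
  | 0, F => by
    have hS := injSeq_shortExact F
    suffices H : ∀ z : Ext (EtCoh.const S ℤ) (injSeq F).X₁ 1, z = 0 from
      ⟨fun a b => (H a).trans (H b).symm⟩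
    intro z
    obtain ⟨w, rfl⟩ := Ext.covariant_sequence_exact₁ (EtCoh.const S ℤ) hS z
      (Ext.eq_zero_of_injective _) (n₀ := 0) rfl
    obtain ⟨φ, rfl⟩ := (Ext.mk₀_bijective _ _).2 w
    obtain ⟨t, ht⟩ := exists_lift_top h2 hS
      (φ.hom.app (op (EtCoh.top S)) (EtStalk.oneSec S))
    let ψ : EtCoh.const S ℤ ⟶ (injSeq F).X₂ := ((EtCore.constAdj S).homEquiv _ _).symm
      ((AddCommGrpCat.uliftZMultiplesAddEquiv _).symm t)
    have hψ : ψ.hom.app (op (EtCoh.top S)) (EtStalk.oneSec S) = t := by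
      have h := ((EtCore.constAdj S).homEquiv (AddCommGrpCat.of (ULift.{u + 1} ℤ))
        (injSeq F).X₂).apply_symm_apply ((AddCommGrpCat.uliftZMultiplesAddEquiv _).symm t)
      rw [Adjunction.homEquiv_unit] at h
      refine (ConcreteCategory.congr_hom h (ULift.up 1)).trans ?_
      exact (AddCommGrpCat.uliftZMultiplesAddEquiv _).apply_symm_apply t
    have e : φ = ψ ≫ (injSeq F).g := by
      refine EtStalk.const_hom_ext ?_
      show _ = (injSeq F).g.hom.app _ (ψ.hom.app (op (EtCoh.top S)) (EtStalk.oneSec S))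
      rw [hψ, ht]
    rw [e, ← Ext.mk₀_comp_mk₀, Ext.comp_assoc_of_second_deg_zero, hS.comp_extClass, Ext.comp_zero]
  | q + 1, F => by
    have hS := injSeq_shortExact F
    haveI := subsingleton_H_of_t1 q (injSeq F).X₃
    suffices H : ∀ z : Ext (EtCoh.const S ℤ) (injSeq F).X₁ (q + 1 + 1), z = 0 from
      ⟨fun a b => (H a).trans (H b).symm⟩
    intro z
    obtain ⟨w, rfl⟩ := Ext.covariant_sequence_exact₁ (EtCoh.const S ℤ) hS z
      (Ext.eq_zero_of_injective _) (n₀ := q + 1) rfl
    rw [Subsingleton.elim (α := EtCoh.H S (injSeq F).X₃ (q + 1)) w 0, Ext.zero_comp]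

end Groth.Agent.NormSep24
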