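import Groth.Agent.Lib.NormSep24.ConstUnit

/-!
# The unit for constant sheaves along a preimmersion onto the generic point
-/

universe u

set_option maxHeartbeats 400000

open CategoryTheory CategoryTheory.Limits AlgebraicGeometry Opposite

namespace Groth.Agent.NormSep24

open Groth.Agent.EtSite

variable {Y : Scheme.{u}} [IsIntegral Y]

theorem isIso_unit_const_point {X : Scheme.{u}} (f : X ⟶ Y) [IsPreimmersion f]
    (hr : Set.range f = {genericPoint Y}) (hN : ∀ y : Y, IsIntegrallyClosed (Y.presheaf.stalk y))
    (M : Type) [AddCommGroup M] :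
    IsIso ((EtCoh.pullPushAdj f).unit.app (EtCoh.const Y M)) := by
  refine isIso_unit_of_isIso_toPush M _ (isIso_toPush M _ fun V v => ?_)
  obtain ⟨W, hv, hW⟩ := exists_irr hN V v
  refine ⟨W, hv, hW, irreducibleSpace_bc _ _ ?_⟩
  haveI : IrreducibleSpace (sub V W).left := hW
  let g : (sub V W).left ⟶ Y := (sub V W).hom
  haveI : AlgebraicGeometry.Etale g := (sub V W).prop
  rw [hr]
  obtain ⟨x, hx⟩ := generic_mem_range (V := sub V W) hW.toNonempty
  have hsub : ∀ s, g s = genericPoint Y → genericPoint (sub V W).left = s := by
    intro s hs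
    have hsp : genericPoint (sub V W).left ⤳ s := (genericPoint_spec _).specializes trivial
    refine eq_of_specializes_of_fibre g hsp ?_
    have h1 : g (genericPoint (sub V W).left) ⤳ genericPoint Y := hs ▸ hsp.map g.continuous
    rw [hs]
    exact (h1.antisymm ((genericPoint_spec Y).specializes trivial)).eq
  have : (sub V W).hom ⁻¹' {genericPoint Y} = {genericPoint (sub V W).left} := by
    ext s
    exact ⟨fun hs => (hsub s hs).symm, fun hs => by rw [hs, hsub x hx]; exact hx⟩
  rw [this]
  exact isIrreducible_singleton

end Groth.Agent.NormSep24
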